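import Cfsg.Agent.H356.Crit
import Cfsg.Agent.Cit.HexD4
import Cfsg.Agent.H92.ExcSL2
import Cfsg.Agent.S1067

/-!
# `³D₄(q)` does not satisfy `H356.Crit` (helper680, for S3394)
-/

set_option autoImplicit false

namespace Cfsg.Agent.H680.CritD4

open Subgroup Cfsg Cfsg.Lie
open Cfsg.Agent.ChevalleyStructure Cfsg.Agent.ChevalleyStructure.SL2Rep Cfsg.Agent.ChevalleyStructure.SL2Hom
open Cfsg.Agent.GH.LowRankD4 (ou hi high_comm hi_mem hi_neg_one out_neg_one hi_up hi_lo commute_of good)
open Cfsg.Agent.Cit.HexD4 (pb0 pb0_up pb0_lo pb0_mem)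
open Cfsg.Agent.ChevalleyStructure.D4Cols (xU)

variable {K P : Type*} [Field K] [Field P]

/-- the highest root `SL₂` commutes with the outer one -/
theorem hi_pb0 (c : P →+* K) (φ : K →+* K) (g : Matrix.SpecialLinearGroup (Fin 2) P)
    (h : Matrix.SpecialLinearGroup (Fin 2) K) : Commute (hi c g) (pb0 φ h) := by
  have q : ∀ {r s : ℕ}, (r, s) ∈ GH.LowRankD4.highPairs → ∀ t u : K, Commute (xU r t) (xU s u) :=
    fun h t u => high_comm h t u
  refine commute_of (hi c) (pb0 φ) _ _ mem_closure_SL2 mem_closure_SL2 ?_ g h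
  rintro _ (⟨t, rfl⟩ | ⟨t, rfl⟩) _ (⟨u, rfl⟩ | ⟨u, rfl⟩)
  · rw [hi_up]
    have e : pb0 φ (up u) = D4Fixed.X φ u := pb0_up φ u
    rw [e, D4Fixed.X]
    exact ((q (by decide) _ _).mul_right (q (by decide) _ _)).mul_right (q (by decide) _ _)
  · rw [hi_up]
    have e : pb0 φ (lo u) = D4Fixed.Y φ u := pb0_lo φ u
    rw [e, D4Fixed.Y]
    exact ((q (by decide) _ _).mul_right (q (by decide) _ _)).mul_right (q (by decide) _ _)
  · rw [hi_lo]
    have e : pb0 φ (up u) = D4Fixed.X φ u := pb0_up φ u
    rw [e, D4Fixed.X]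
    exact ((q (by decide) _ _).mul_right (q (by decide) _ _)).mul_right (q (by decide) _ _)
  · rw [hi_lo]
    have e : pb0 φ (lo u) = D4Fixed.Y φ u := pb0_lo φ u
    rw [e, D4Fixed.Y]
    exact ((q (by decide) _ _).mul_right (q (by decide) _ _)).mul_right (q (by decide) _ _)

/-! ### injectivity -/

theorem map_neg_one' (c : P →+* K) :
    Matrix.SpecialLinearGroup.map c (-1 : Matrix.SpecialLinearGroup (Fin 2) P) = -1 := by
  apply Subtype.ext
  ext i j
  fin_cases i <;> fin_cases j <;> simp

theorem map_injective (c : P →+* K) : Function.Injective (Matrix.SpecialLinearGroup.map (n := Fin 2) c) := by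
  intro g h e
  apply Subtype.ext
  ext i j
  have h1 := congrArg (fun z : Matrix.SpecialLinearGroup (Fin 2) K => z.1 i j) e
  exact c.injective (by simpa using h1)

theorem ou_eq_one (c : P →+* K) {r : ℕ} (hr : r < 24) {g : Matrix.SpecialLinearGroup (Fin 2) P}
    (h : ou c r hr g = 1) : Matrix.SpecialLinearGroup.map c g = 1 ∨ Matrix.SpecialLinearGroup.map c g = -1 := by
  refine Cfsg.Agent.H92.ExcSL2.ph_eq_one (D := chevD4) (by simp) hr ?_
  exact Subtype.ext h

theorem neg_one_eq_one (h2 : (2 : K) = 0) : (-1 : Matrix.SpecialLinearGroup (Fin 2) K) = 1 := by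
  have h3 : (-1 : K) = 1 := by linear_combination -h2
  ext i j
  fin_cases i <;> fin_cases j <;> simp [h3]

theorem hi_injective (c : P →+* K) : Function.Injective (hi c) := by
  rw [injective_iff_map_eq_one]
  intro g hg
  have h1 := ou_eq_one c (r := 23) (by decide) (g := g) hg
  by_cases h2 : (2 : K) = 0
  · rw [neg_one_eq_one h2, or_self] at h1
    exact map_injective c (h1.trans (map_one _).symm)
  · rcases h1 with h1 | h1
    · exact map_injective c (h1.trans (map_one _).symm)
    · exfalso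
      have h3 : g = -1 := map_injective c (h1.trans (map_neg_one' c).symm)
      rw [h3] at hg
      exact hi_neg_one c h2 hg

theorem comm_of_sign {g h : Matrix.SpecialLinearGroup (Fin 2) K} (ht : (h : Matrix (Fin 2) (Fin 2) K).trace = 2)
    (H : g * h * g⁻¹ * h⁻¹ = 1 ∨ g * h * g⁻¹ * h⁻¹ = -1) : g * h = h * g := by
  by_cases h2 : (2 : K) = 0
  · rw [neg_one_eq_one h2, or_self] at H
    calc g * h = (g * h * g⁻¹ * h⁻¹) * (h * g) := by group
      _ = h * g := by rw [H, one_mul]
  · rcases H with H | H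
    · calc g * h = (g * h * g⁻¹ * h⁻¹) * (h * g) := by group
        _ = h * g := by rw [H, one_mul]
    · exfalso
      have h3 : g * h * g⁻¹ = (-1) * h := by
        calc g * h * g⁻¹ = (g * h * g⁻¹ * h⁻¹) * h := by group
          _ = (-1) * h := by rw [H]
      have h4 := congrArg (fun z : Matrix.SpecialLinearGroup (Fin 2) K => (z : Matrix (Fin 2) (Fin 2) K).trace) h3
      simp only [Matrix.SpecialLinearGroup.coe_mul, Matrix.SpecialLinearGroup.coe_neg,
        neg_mul, one_mul, Matrix.trace_neg, ht] at h4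
      have h5 : ((g : Matrix (Fin 2) (Fin 2) K) * (h : Matrix (Fin 2) (Fin 2) K) *
          ((g⁻¹ : Matrix.SpecialLinearGroup (Fin 2) K) : Matrix (Fin 2) (Fin 2) K)).trace = 2 := by
        rw [Matrix.trace_mul_comm, ← mul_assoc]
        have h6 : ((g⁻¹ : Matrix.SpecialLinearGroup (Fin 2) K) : Matrix (Fin 2) (Fin 2) K) *
            (g : Matrix (Fin 2) (Fin 2) K) = 1 := by
          rw [← Matrix.SpecialLinearGroup.coe_mul, inv_mul_cancel, Matrix.SpecialLinearGroup.coe_one]
        rw [h6, one_mul, ht]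
      rw [h5] at h4
      have h7 : (2 : K) * 2 = 0 := by linear_combination h4
      rcases mul_eq_zero.1 h7 with h8 | h8
      · exact h2 h8
      · exact h2 h8

theorem eq_of_central {g : Matrix.SpecialLinearGroup (Fin 2) K}
    (h : ∀ h : Matrix.SpecialLinearGroup (Fin 2) K, (h : Matrix (Fin 2) (Fin 2) K).trace = 2 → g * h = h * g) :
    g = 1 ∨ g = -1 := by
  have hc : g ∈ center (Matrix.SpecialLinearGroup (Fin 2) K) := by
    rw [mem_center_iff]
    intro x
    have h1 : Subgroup.closure (Set.range (up (F := K)) ∪ Set.range (lo (F := K))) ≤ centralizer {g} := by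
      rw [Subgroup.closure_le]
      rintro _ (⟨t, rfl⟩ | ⟨t, rfl⟩)
      · refine mem_centralizer_singleton_iff.2 (h _ ?_).symm
        change (!![1, t; 0, 1] : Matrix (Fin 2) (Fin 2) K).trace = 2
        rw [Matrix.trace_fin_two]
        norm_num
      · refine mem_centralizer_singleton_iff.2 (h _ ?_).symm
        change (!![1, 0; t, 1] : Matrix (Fin 2) (Fin 2) K).trace = 2
        rw [Matrix.trace_fin_two]
        norm_num
    exact mem_centralizer_singleton_iff.1 (h1 (mem_closure_SL2 x))
  obtain ⟨r, hr, h⟩ := Matrix.SpecialLinearGroup.mem_center_iff.1 hc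
  rw [Fintype.card_fin] at hr
  have h3 : r = 1 ∨ r = -1 := mul_self_eq_one_iff.1 (by rw [← sq]; exact hr)
  rcases h3 with rfl | rfl
  · left
    apply Subtype.ext
    rw [← h]
    ext i j
    fin_cases i <;> fin_cases j <;> simp
  · right
    apply Subtype.ext
    rw [← h]
    ext i j
    fin_cases i <;> fin_cases j <;> simp

theorem pb0_injective (φ : K →+* K) : Function.Injective (pb0 φ) := by
  rw [injective_iff_map_eq_one]
  intro g hg
  have hcen : ∀ h : Matrix.SpecialLinearGroup (Fin 2) K, (h : Matrix (Fin 2) (Fin 2) K).trace = 2 →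
      g * h = h * g := by
    intro h ht
    refine comm_of_sign ht ?_
    have e1 := Cfsg.Agent.Cit.HexD4.comm_of φ (RingHom.id K) 13 10 18 5 (by decide) (by decide)
      (by decide +kernel) (by decide +kernel)
      (Cfsg.Agent.GH.LowRankD4.pc' (by decide)) (Cfsg.Agent.GH.LowRankD4.pc' (by decide))
      (Cfsg.Agent.GH.LowRankD4.pc' (by decide)) (Cfsg.Agent.GH.LowRankD4.pc' (by decide)) g h
    have e2 := Cfsg.Agent.Cit.HexD4.comm_of (φ.comp φ) (RingHom.id K) 12 11 18 5 (by decide) (by decide)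
      (by decide +kernel) (by decide +kernel)
      (Cfsg.Agent.GH.LowRankD4.pc' (by decide)) (Cfsg.Agent.GH.LowRankD4.pc' (by decide))
      (Cfsg.Agent.GH.LowRankD4.pc' (by decide)) (Cfsg.Agent.GH.LowRankD4.pc' (by decide)) g h
    have e0 : ou (RingHom.id K) 18 (by decide) g * ou φ 13 (by decide) g * ou (φ.comp φ) 12 (by decide) g = 1 := hg
    have e3 : ou (RingHom.id K) 18 (by decide) (g * h * g⁻¹ * h⁻¹) = 1 := by
      simp only [map_mul, map_inv]
      generalize ou (RingHom.id K) 18 (by decide) g = A at *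
      generalize ou (RingHom.id K) 18 (by decide) h = A' at *
      generalize ou φ 13 (by decide) g = B at *
      generalize ou (φ.comp φ) 12 (by decide) g = D at *
      have e4 : A = (B * D)⁻¹ := by
        rw [mul_assoc] at e0
        exact eq_inv_of_mul_eq_one_left e0
      have e5 : (B * D) * A' = A' * (B * D) := by
        rw [mul_assoc, e2, ← mul_assoc, e1, mul_assoc]
      have e6 : A * A' = A' * A := by
        rw [e4]
        exact ((show Commute (B * D) A' from e5).inv_left).eq
      rw [e6, mul_inv_cancel_right, mul_inv_cancel]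
    have e7 := ou_eq_one (RingHom.id K) (by decide) e3
    have e8 : Matrix.SpecialLinearGroup.map (RingHom.id K) (g * h * g⁻¹ * h⁻¹) = g * h * g⁻¹ * h⁻¹ := by
      apply Subtype.ext
      ext i j
      simp
    rwa [e8] at e7
  rcases eq_of_central hcen with h | h
  · exact h
  · by_cases h2 : (2 : K) = 0
    · rw [h, neg_one_eq_one h2]
    · exfalso
      refine out_neg_one (RingHom.id K) h2 ?_
      rw [h] at hg
      have e1 : ∀ (c : K →+* K) (r : ℕ) (hr : r < 24), ou c r hr (-1) = ou (RingHom.id K) r hr (-1) := by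
        intro c r hr
        change phi (good r hr) K (Matrix.SpecialLinearGroup.map c (-1)) =
          phi (good r hr) K (Matrix.SpecialLinearGroup.map (RingHom.id K) (-1))
        rw [map_neg_one', map_neg_one']
      have e0 : ou (RingHom.id K) 18 (by decide) (-1) * ou φ 13 (by decide) (-1) *
        ou (φ.comp φ) 12 (by decide) (-1) = 1 := hg
      rw [e1 φ, e1 (φ.comp φ)] at e0
      exact e0

/-! ### the kill -/

theorem three_dvd {n : ℕ} (h : ¬ 3 ∣ n) : 3 ∣ n ^ 2 - 1 := by
  have h1 : n ^ 2 % 3 = 1 := by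
    have h2 : n % 3 = 1 ∨ n % 3 = 2 := by omega
    rw [Nat.pow_mod]
    rcases h2 with h2 | h2 <;> rw [h2]
  omega

theorem nine_dvd {n : ℕ} (h : ¬ 3 ∣ n) : 9 ∣ n ^ 6 - 1 := by
  have h1 : n ^ 6 % 9 = 1 := by
    have h2 : n % 9 = 1 ∨ n % 9 = 2 ∨ n % 9 = 4 ∨ n % 9 = 5 ∨ n % 9 = 7 ∨ n % 9 = 8 := by omega
    rw [Nat.pow_mod]
    rcases h2 with h2 | h2 | h2 | h2 | h2 | h2 <;> rw [h2]
  omega

theorem kill {K : Type*} [Field K] [Fintype K] {q : ℕ} (hq : IsPrimePow q) (hK : Fintype.card K = q ^ 3)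
    (hc : Cfsg.Agent.H356.Crit ↥(twistedD4 K q)) : False := by
  by_cases h3 : 3 ∣ q
  · refine hc.not_dvd ?_
    rw [Cfsg.Agent.S1067.result hq hK]
    refine Dvd.dvd.mul_right (Dvd.dvd.mul_right (Dvd.dvd.mul_right ?_ _) _) _
    exact (pow_dvd_pow_of_dvd h3 5).trans (pow_dvd_pow q (by norm_num))
  · obtain ⟨φ, hφ⟩ := Cfsg.Agent.ChevalleyStructure.D4Fixed.exists_frob hq hK
    obtain ⟨p, hp⟩ := CharP.exists K
    have hpr : p.Prime := (CharP.char_is_prime_or_zero K p).resolve_right (CharP.char_ne_zero_of_finite K p)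
    have := Fact.mk hpr
    let c : ZMod p →+* K := ZMod.castHom (dvd_refl p) K
    have hcc : ∀ t, φ (c t) = c t := by
      intro t
      have h1 : (φ : K →+* K).comp c = c := Subsingleton.elim _ _
      exact congrFun (congrArg DFunLike.coe h1) t
    have hp3 : p ≠ 3 := by
      rintro rfl
      obtain ⟨n, hn, h1⟩ := FiniteField.card K 3
      have h2 : 3 ∣ q ^ 3 := by
        rw [← hK, h1]
        exact dvd_pow_self _ n.ne_zero
      exact h3 (Nat.prime_three.dvd_of_dvd_pow h2)
    have hp3' : ¬ 3 ∣ p := fun h => hp3 ((Nat.prime_dvd_prime_iff_eq Nat.prime_three hpr).1 h).symm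
    have hK3 : (3 : K) ≠ 0 := by
      intro h
      have h1 : ((3 : ℕ) : K) = 0 := by exact_mod_cast h
      have h2 := (CharP.cast_eq_zero_iff K p 3).1 h1
      exact hp3 ((Nat.prime_dvd_prime_iff_eq hpr Nat.prime_three).1 h2)
    have hZ3 : (3 : ZMod p) ≠ 0 := by
      intro h
      apply hK3
      have h1 : c 3 = c 0 := congrArg c h
      rw [map_zero, map_ofNat] at h1
      exact h1
    obtain ⟨A, hA, hcard, ⟨a, ha, ho⟩, -⟩ := Cfsg.Agent.H356.SLTorus.exists_two (n := 2) (m := 1) hK3 hZ3
      (by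
        rw [Nat.card_eq_fintype_card, hK, ← pow_mul]
        exact nine_dvd h3)
      (by
        rw [Nat.card_zmod]
        exact three_dvd hp3')
      (MonoidHom.id ↥(twistedD4 K q)) (by
        rw [MonoidHom.ker_id]
        exact bot_le)
      ((pb0 φ).codRestrict (twistedD4 K q) (pb0_mem hφ)) (by
        intro g h e
        exact pb0_injective φ (congrArg Subtype.val e))
      ((hi c).codRestrict (twistedD4 K q) (hi_mem c hφ hcc)) (by
        intro g h e
        exact hi_injective c (congrArg Subtype.val e))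
      (fun a b => Subtype.ext (hi_pb0 c φ b a).symm.eq)
    exact hc.not_nine hA (by rw [hcard]; norm_num) ha (by rw [ho]; norm_num)

end Cfsg.Agent.H680.CritD4
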