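import Cfsg.Agent.H680.TRowBase
import Cfsg.Agent.H680.CritD4
import Cfsg.Agent.H967.CopTw

/-!
# `TRow r (³D₄(q))` (helper680, for S4952, S4938, S4939, S4128, S4129)
-/

set_option autoImplicit false

namespace Cfsg.Agent.H680.TRowD4

open Subgroup Cfsg Cfsg.Lie
open Cfsg.Agent.H716.CopRow Cfsg.Agent.H967.CopRow Cfsg.Agent.H967.CopMat Cfsg.Agent.H680.TRowBase
open Cfsg.Agent.ChevalleyStructure Cfsg.Agent.ChevalleyStructure.SL2Hom
open Cfsg.Agent.GH.LowRankD4 (hi hi_mem hi_up hi_lo)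
open Cfsg.Agent.Cit.HexD4 (pb0 pb0_up pb0_lo pb0_mem)
open Cfsg.Agent.ChevalleyStructure.D4Cols (xU)

variable {K : Type*} [Field K]

theorem map_xU (σ : K →+* K) (r : ℕ) (t : K) : Matrix.GeneralLinearGroup.map σ (xU r t) = xU r (σ t) := by
  apply Units.ext
  show (chevD4.x K r t).map σ = chevD4.x K r (σ t)
  exact ChevStructure.FieldMap.x_map chevD4 σ r t

theorem map_pb0 (φ : K →+* K) (σ : K →+* K) (hσ : ∀ t, σ (φ t) = φ (σ t)) (g : Matrix.SpecialLinearGroup (Fin 2) K) :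
    Matrix.GeneralLinearGroup.map σ (pb0 φ g) = pb0 φ (Matrix.SpecialLinearGroup.map σ g) := by
  have e1 : ∀ u, pb0 φ (up u) = D4Fixed.X φ u := fun u => pb0_up φ u
  have e2 : ∀ u, pb0 φ (lo u) = D4Fixed.Y φ u := fun u => pb0_lo φ u
  have h : Set.EqOn ((Matrix.GeneralLinearGroup.map σ).comp (pb0 φ)) ((pb0 φ).comp (Matrix.SpecialLinearGroup.map σ))
      (Set.range (up (F := K)) ∪ Set.range (lo (F := K))) := by
    rintro _ (⟨t, rfl⟩ | ⟨t, rfl⟩)
    · show Matrix.GeneralLinearGroup.map σ (pb0 φ (up t)) = pb0 φ (Matrix.SpecialLinearGroup.map σ (up t))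
      rw [GH.LowRankD4.map_up, e1, e1, D4Fixed.X, D4Fixed.X, map_mul, map_mul, map_xU, map_xU, map_xU]
      simp only [hσ]
    · show Matrix.GeneralLinearGroup.map σ (pb0 φ (lo t)) = pb0 φ (Matrix.SpecialLinearGroup.map σ (lo t))
      rw [GH.LowRankD4.map_lo, e2, e2, D4Fixed.Y, D4Fixed.Y, map_mul, map_mul, map_xU, map_xU, map_xU]
      simp only [hσ]
  exact MonoidHom.eqOn_closure h (mem_closure_SL2 g)

theorem tRow {K : Type*} [Field K] [Fintype K] {r : ℕ} [CharP K r] {q : ℕ} (hq : IsPrimePow q)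
    (hK : Fintype.card K = q ^ 3) : TRow r ↥(twistedD4 K q) := by
  have : Fact r.Prime := ⟨(CharP.char_is_prime_or_zero K r).resolve_right (CharP.char_ne_zero_of_finite K r)⟩
  obtain ⟨φ, hφ⟩ := D4Fixed.exists_frob hq hK
  let c : ZMod r →+* K := ZMod.castHom (dvd_refl r) K
  have hcc : ∀ t, φ (c t) = c t := by
    intro t
    have h1 : (φ : K →+* K).comp c = c := Subsingleton.elim _ _
    exact congrFun (congrArg DFunLike.coe h1) t
  refine tRow_of_row (H967.CopTw.row_d4 hq hK) fun σ hp hn => ?_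
  have hσ : σ ≠ 1 := by
    rintro rfl
    rw [orderOf_one] at hp
    exact Nat.not_prime_one hp
  refine crit hσ (((pb0 φ).codRestrict (twistedD4 K q) (pb0_mem hφ)).comp dgH) ?_ ?_
    (u := (hi c).codRestrict (twistedD4 K q) (hi_mem c hφ hcc) (up 1)) ?_ ?_
  · intro s t h
    exact dgH_injective (CritD4.pb0_injective φ (congrArg Subtype.val h))
  · intro t
    apply Subtype.ext
    show Matrix.GeneralLinearGroup.map (σ : K →+* K) (pb0 φ (dgH t)) = pb0 φ (dgH _)
    rw [map_pb0 φ (σ : K →+* K) (fun t => by rw [hφ, hφ, map_pow]), map_dgH]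
  · intro t
    exact (Subtype.ext (CritD4.hi_pb0 c φ (up 1) (dgH t)).eq : _).symm
  · have h1 : Function.Injective ((hi c).codRestrict (twistedD4 K q) (hi_mem c hφ hcc)) := fun a b h =>
      CritD4.hi_injective c (congrArg Subtype.val h)
    rw [orderOf_injective _ h1]
    exact orderOf_up one_ne_zero

end Cfsg.Agent.H680.TRowD4
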