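import Cfsg.Agent.H730.PairRow
import Cfsg.Agent.H60.TRowTwF4
import Cfsg.Agent.H762.CHyp
import Cfsg.Agent.H127.TwFInv

/-!
# `XRow 2` for the groups `²F₄(q)`

`x = e u` with `e` a torus element of order `q - 1` (moved by all field automorphisms) and `u` an involution of the
class of the root elements of order two outside the centre of a Sylow 2-subgroup. The class size of `u` is divisible by
all primes: `|C(u)| = |C(u) ∩ UT| (q + 1)`, `N(X)` is transitive on the `q - 1` nonidentity elements of the root group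
`X = Z(C(u))`, and `3 ∣ |C(u)|` while `3` does not divide the order of the centralizer of a 2-central involution.
-/

set_option autoImplicit false

namespace Cfsg.Agent.H680.XRowTwF4

open Cfsg Cfsg.Lie Subgroup

section full

open Cfsg.Agent.SplitTwo Cfsg.Agent.SplitTwo.ZS Cfsg.Agent.TitsThree.RankTwoZ Cfsg.Agent.KFacts.TwF4
open Cfsg.Agent.KFacts.TwF4.Arc Cfsg.Agent.KFacts.TwF4.Irr Cfsg.Agent.KFacts.TwF4.Layers
open Cfsg.Agent.KFacts.TwF4.Perf Cfsg.Agent.KFacts.TwF4.Inv Cfsg.Agent.KFacts.TwF4.SylU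

universe u

variable {F : Type*} [Field F] {σ : F →+* F} {G : Type u} [Group G] (S : Full σ G) [Finite F] [Finite G]

omit [Finite G] in
/-- the torus is transitive on the nonidentity elements of `X_5` -/
theorem exists_h (s : F) (hs : s ≠ 0) : ∃ t ∈ S.T, t * S.o 2 1 * t⁻¹ = S.o 2 s := by
  classical
  have hinj : Function.Injective (fun d : Fˣ => d * Units.map (σ : F →* F) d) := by
    intro a b hab
    have h1 : (a / b) * Units.map (σ : F →* F) (a / b) = 1 := by
      have h2 : a * Units.map (σ : F →* F) a = b * Units.map (σ : F →* F) b := hab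
      rw [map_div, div_mul_div_comm, h2, div_self']
    exact div_eq_one.1 (S.unit_eq_one h1)
  have hsurj := Finite.surjective_of_injective hinj
  obtain ⟨d, hd⟩ := hsurj (Units.mk0 s hs)
  refine ⟨S.h 1 d, S.mem_T.2 ⟨1, d, rfl⟩, ?_⟩
  rw [S.h_o]
  congr 1
  have h2 : chO σ 2 1 d = d * Units.map (σ : F →* F) d := by
    show chE σ 2 1 d * chE σ 3 1 d = _
    rw [chE_two, chE_three, map_one, div_one, div_one, mul_comm]
  have h3 : d * Units.map (σ : F →* F) d = Units.mk0 s hs := hd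
  rw [h2, h3, mul_one]
  rfl

omit [Finite G] in
/-- `q - 1` divides the class size of `o 2 1` -/
theorem sub_one_dvd : Nat.card F - 1 ∣ (centralizer ({S.o 2 1} : Set G)).index := by
  classical
  rw [S.centralizer_o one_ne_zero]
  have hle : S.HO ≤ normalizer (S.XZ 5 : Set G) := by
    intro g hg
    rw [← S.centralizer_X5] at hg
    exact centralizer_le_normalizer _ hg
  rw [← relIndex_mul_index hle]
  refine Dvd.dvd.mul_right (dvd_of_eq ?_) _
  let act : MulAction ↥(normalizer (S.XZ 5 : Set G)) G :=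
    MulAction.compHom G ((MulAut.conj : G →* MulAut G).comp (normalizer (S.XZ 5 : Set G)).subtype)
  have hsm : ∀ (n : ↥(normalizer (S.XZ 5 : Set G))) (x : G), n • x = (n : G) * x * (n : G)⁻¹ := fun n x => rfl
  have hst : MulAction.stabilizer ↥(normalizer (S.XZ 5 : Set G)) (S.o 2 1) = S.HO.subgroupOf _ := by
    ext n
    rw [MulAction.mem_stabilizer_iff, hsm, mem_subgroupOf, ← S.centralizer_o (one_ne_zero (α := F)),
      mem_centralizer_singleton_iff, mul_inv_eq_iff_eq_mul]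
  have horb : MulAction.orbit ↥(normalizer (S.XZ 5 : Set G)) (S.o 2 1) = Set.range (fun s : Fˣ => S.o 2 (s : F)) := by
    ext x
    constructor
    · rintro ⟨n, rfl⟩
      have h1 : (n : G) * S.o 2 1 * (n : G)⁻¹ ∈ S.XZ 5 := (mem_normalizer_iff.1 n.2 _).1 (S.mX5 1)
      obtain ⟨s, hs⟩ := (mem_X5 S).1 h1
      have hs0 : s ≠ 0 := by
        rintro rfl
        rw [S.o_zero] at hs
        have h2 : S.o 2 1 = 1 := by
          have := hs.symm
          rw [mul_inv_eq_one] at this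
          exact mul_eq_left.1 this
        exact one_ne_zero (S.o_eq_one h2)
      exact ⟨Units.mk0 s hs0, hs⟩
    · rintro ⟨s, rfl⟩
      obtain ⟨t, ht, h⟩ := exists_h S s s.ne_zero
      have htn : t ∈ normalizer (S.XZ 5 : Set G) := by
        rw [mem_normalizer_iff]
        intro x
        constructor
        · exact fun hx => S.T_conj ht 5 hx
        · intro hx
          have h2 := S.T_conj (inv_mem ht) 5 hx
          have e : t⁻¹ * (t * x * t⁻¹) * t⁻¹⁻¹ = x := by group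
          rwa [e] at h2
      exact ⟨⟨t, htn⟩, h⟩
  have h1 := MulAction.index_stabilizer ↥(normalizer (S.XZ 5 : Set G)) (S.o 2 1)
  rw [hst, horb, Set.ncard_range_of_injective] at h1
  · rw [← Nat.card_units, ← h1]
    rfl
  · intro a b hab
    exact Units.ext (S.injO 2 hab)

/-- odd primes -/
theorem dvd_index (hR : S.R.p = 2) {p : ℕ} (hp : p.Prime) (hp2 : p ≠ 2)
    (hq : (Nat.card F + 1) ^ 2 ∣ Nat.card G) (hpG : p ∣ Nat.card G) :
    p ∣ (centralizer ({S.o 2 1} : Set G)).index := by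
  by_cases h1 : p ∣ Nat.card F - 1
  · exact h1.trans (sub_one_dvd S)
  have h2 : ¬ p ∣ Nat.card (S.HO ⊓ (J S.XZ 1 8 ⊔ S.T) : Subgroup G) := fun h =>
    h1 (H127.TwFInv.prime_BT S hR hp hp2 (h.trans (card_dvd_of_le inf_le_right)))
  by_contra hcon
  have hc := (centralizer ({S.o 2 1} : Set G)).card_mul_index
  have hv : p.Coprime (centralizer ({S.o 2 1} : Set G)).index := (Nat.Prime.coprime_iff_not_dvd hp).2 hcon
  rw [S.centralizer_o one_ne_zero, H127.TwFInv.card_HO S] at hc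
  rw [S.centralizer_o one_ne_zero] at hv
  have hv2 : p.Coprime (Nat.card (S.HO ⊓ (J S.XZ 1 8 ⊔ S.T) : Subgroup G)) := (Nat.Prime.coprime_iff_not_dvd hp).2 h2
  have h3 : p ∣ 1 + Nat.card F := by
    rw [← hc] at hpG
    exact hv2.dvd_of_dvd_mul_left (hv.dvd_of_dvd_mul_right hpG)
  have hn0 : (1 + Nat.card F) ≠ 0 := by omega
  obtain ⟨k, hk, hk1⟩ : ∃ k, p ^ k ∣ 1 + Nat.card F ∧ ¬ p ^ (k + 1) ∣ 1 + Nat.card F :=
    ⟨_, Nat.ordProj_dvd _ p, Nat.pow_succ_factorization_not_dvd hn0 hp⟩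
  have hk0 : k ≠ 0 := by
    rintro rfl
    rw [zero_add, pow_one] at hk1
    exact hk1 h3
  have h4 : p ^ (k + 1) ∣ Nat.card G := by
    refine Dvd.dvd.trans ?_ hq
    rw [pow_two, pow_succ, add_comm (Nat.card F) 1]
    exact mul_dvd_mul hk h3
  rw [← hc] at h4
  exact hk1 ((hv2.pow_left _).dvd_of_dvd_mul_left ((hv.pow_left _).dvd_of_dvd_mul_right h4))

end full

section model

open Cfsg.Agent.SplitTwo Cfsg.Agent.SplitTwo.ZS Cfsg.Agent.TitsThree.RankTwoZ Cfsg.Agent.KFacts.TwF4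
open Cfsg.Agent.KFacts.TwF4.Inst Cfsg.Agent.Octagon.KRel
open Cfsg.Agent.ChevalleyStructure.TwF4.Rel Cfsg.Agent.ChevalleyStructure.TwF4.Fix
open Cfsg.Agent.ChevalleyStructure.TwF4.Groups Cfsg.Agent.ChevalleyStructure.TwF4.RankOne
open Cfsg.Agent.ChevalleyStructure.TwF4.Twisted Cfsg.Agent.ChevalleyStructure.TwF4.TwistedFix
open Cfsg.Agent.ChevalleyStructure.TwF4.BN
open Cfsg.Agent.Octagon.Pkg Cfsg.Agent.Octagon.KSys Cfsg.Agent.Octagon.KPar

variable {K : Type*} [Field K] [Fintype K]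

/-- all primes divide the class size of the involution `o 2 1` -/
theorem dvd_index_model {m : ℕ} (hK : Fintype.card K = 2 ^ (2 * m + 1)) [CharP K 2] {φ : K →+* K}
    (hφ : ChevalleyStructure.TwF4.TwistedFix.Rln φ (2 ^ m)) {p : ℕ} (hp : p.Prime) (hpG : p ∣ Nat.card ↥(twistedF4 K (2 ^ m))) :
    p ∣ (centralizer ({ro hφ 2 1} : Set ↥(twistedF4 K (2 ^ m)))).index := by
  classical
  have hfin : Finite ↥(twistedF4 K (2 ^ m)) := inferInstance
  let S := Inst.full hK hφ
  have hR : S.R.p = 2 := rfl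
  have hq : Nat.card K = 2 ^ (2 * m + 1) := by rw [Nat.card_eq_fintype_card, hK]
  by_cases hp2 : p = 2
  · subst hp2
    have hfact : Fact (Nat.Prime 2) := ⟨Nat.prime_two⟩
    by_contra hcon
    have hcon' : ¬ 2 ∣ (centralizer ({S.o 2 1} : Set ↥(twistedF4 K (2 ^ m)))).index := hcon
    set C := centralizer ({S.o 2 1} : Set ↥(twistedF4 K (2 ^ m))) with hC
    obtain ⟨P⟩ : Nonempty (Sylow 2 ↥C) := inferInstance
    have hPi : ¬ 2 ∣ ((P : Subgroup ↥C).map C.subtype).index := by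
      rw [index_map_subtype]
      intro h
      rcases (Nat.Prime.dvd_mul Nat.prime_two).1 h with h1 | h1
      · exact P.not_dvd_index h1
      · exact hcon' h1
    let U : Sylow 2 ↥(twistedF4 K (2 ^ m)) := (P.isPGroup'.map C.subtype).toSylow hPi
    have hz : orderOf (S.o 2 1) = 2 := by
      refine orderOf_eq_prime ?_ (fun h => one_ne_zero (S.o_eq_one h))
      have h3 : (1 : K) + 1 = 0 := CharTwo.add_self_eq_zero 1
      rw [pow_two, S.o_add, h3, S.o_zero]
    have hzC : S.o 2 1 ∈ C := mem_centralizer_singleton_iff.2 rfl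
    have hcom : ∀ u ∈ (U : Subgroup ↥(twistedF4 K (2 ^ m))), u * S.o 2 1 = S.o 2 1 * u := by
      rintro _ ⟨u, -, rfl⟩
      exact mem_centralizer_singleton_iff.1 u.2
    have hzU : S.o 2 1 ∈ (U : Subgroup ↥(twistedF4 K (2 ^ m))) := by
      -- a central 2-element of `C` lies in every Sylow subgroup
      have hZ : IsPGroup 2 (zpowers (S.o 2 1)) := by
        rw [IsPGroup.iff_card]
        exact ⟨1, by rw [Nat.card_zpowers, hz, pow_one]⟩
      have hle : (U : Subgroup ↥(twistedF4 K (2 ^ m))) ≤ normalizer (zpowers (S.o 2 1) : Set ↥(twistedF4 K (2 ^ m))) := by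
        refine le_trans ?_ (centralizer_le_normalizer (s := (zpowers (S.o 2 1) : Set ↥(twistedF4 K (2 ^ m)))))
        intro u hu
        rw [mem_centralizer_iff]
        rintro _ ⟨k, rfl⟩
        exact ((Commute.zpow_right (hcom u hu) k) : Commute u (S.o 2 1 ^ k)).symm
      have h4 := IsPGroup.to_sup_of_normal_right' U.isPGroup' hZ hle
      have h5 := U.is_maximal' h4 le_sup_left
      rw [← h5]
      exact mem_sup_right (mem_zpowers _)
    have h3 := (H762.chyp_twistedF4 m hK U (S.o 2 1) hz hzU hcom (MulEquiv.refl _)).three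
    rw [S.centralizer_o one_ne_zero, H127.TwFInv.card_HO S, hq] at h3
    apply h3
    refine Dvd.dvd.mul_left ?_ _
    have h6 : (1 + 2 ^ (2 * m + 1)) % 3 = 0 := by
      rw [pow_succ, pow_mul, Nat.add_mod, Nat.mul_mod, Nat.pow_mod]
      norm_num
    exact Nat.dvd_of_mod_eq_zero h6
  · refine dvd_index S hR hp hp2 ?_ hpG
    rw [hq, S1068.result hK]
    generalize hQ : 2 ^ (2 * m + 1) = Q
    have hQ1 : 1 ≤ Q := hQ ▸ Nat.one_le_two_pow
    obtain ⟨r, rfl⟩ : ∃ r, Q = r + 1 := ⟨Q - 1, by omega⟩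
    have e1 : (r + 1) ^ 3 + 1 = (r + 1 + 1) * ((r + 1) * r + 1) := by ring
    have e2 : (r + 1) ^ 4 - 1 = (r + 1 + 1) * (r * ((r + 1) ^ 2 + 1)) := by
      rw [Nat.sub_eq_iff_eq_add (Nat.one_le_pow _ _ (by omega))]
      ring
    rw [e1, e2]
    exact ⟨(r + 1) ^ 12 * (r + 1 - 1) * ((r + 1) * r + 1) * (r * ((r + 1) ^ 2 + 1)) * ((r + 1) ^ 6 + 1), by ring⟩

/-- conjugate involutions -/
theorem dvd_index_zero {m : ℕ} (hK : Fintype.card K = 2 ^ (2 * m + 1)) [CharP K 2] {φ : K →+* K}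
    (hφ : ChevalleyStructure.TwF4.TwistedFix.Rln φ (2 ^ m)) {p : ℕ} (hp : p.Prime) (hpG : p ∣ Nat.card ↥(twistedF4 K (2 ^ m))) :
    p ∣ (centralizer ({ro hφ 0 1} : Set ↥(twistedF4 K (2 ^ m)))).index := by
  have h := dvd_index_model hK hφ hp hpG
  have e1 := rot_ro hφ 0 (1 : K)
  have e2 := rot_ro hφ 1 (1 : K)
  have e3 : (MulAut.conj ((m1 K (2 ^ m) * m2 hφ) * (m1 K (2 ^ m) * m2 hφ))) (ro hφ 0 1) = ro hφ 2 1 := by
    rw [MulAut.conj_apply]
    have e4 : (0 : ZMod 8) + 1 = 1 := rfl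
    have e5 : (1 : ZMod 8) + 1 = 2 := rfl
    rw [e4] at e1
    rw [e5] at e2
    rw [← e2, ← e1]
    group
  rw [← e3, H730.index_centralizer_mulEquiv] at h
  exact h

end model

section gen

open Cfsg.Agent.H967.CopMat Cfsg.Agent.H967.CopRow Cfsg.Agent.H967.CopSz Cfsg.Agent.H60.TRowTwF4
open Cfsg.Agent.ChevalleyStructure Cfsg.Agent.ChevalleyStructure.TwF4.Torus
  Cfsg.Agent.ChevalleyStructure.TwF4.TwGen Cfsg.Agent.ChevalleyStructure.TwF4.TorusFix
  Cfsg.Agent.ChevalleyStructure.TwF4.Tables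
open Cfsg.Agent.ChevalleyStructure.TwF4.Rel hiding cm
open Cfsg.Agent.H730.Pair

variable {K : Type*} [Field K] [Fintype K]

/-- the torus of order `q - 1` centralising `X 33 1 * X 24 1` -/
noncomputable def tor {m : ℕ} (hK : Fintype.card K = 2 ^ (2 * m + 1)) : Kˣ →* ↥(twistedF4 K (2 ^ m)) where
  toFun g := ⟨T (tc (2 ^ m) (g ^ 2) g), (T_mem_iff hK _).2 ⟨_, _, rfl⟩⟩
  map_one' := by
    apply Subtype.ext
    show T (tc (2 ^ m) ((1 : Kˣ) ^ 2) 1) = 1
    have h4 : tc (2 ^ m) ((1 : Kˣ) ^ 2) 1 = 1 := by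
      funext i
      fin_cases i <;> simp [tc]
    rw [h4, map_one]
  map_mul' a b := by
    apply Subtype.ext
    show T (tc (2 ^ m) ((a * b) ^ 2) (a * b)) = T (tc (2 ^ m) (a ^ 2) a) * T (tc (2 ^ m) (b ^ 2) b)
    rw [← map_mul]
    congr 1
    funext i
    fin_cases i <;> simp [tc, mul_pow]

theorem coe_tor {m : ℕ} (hK : Fintype.card K = 2 ^ (2 * m + 1)) (g : Kˣ) :
    (tor hK g : GL chevF4.Idx K) = T (tc (2 ^ m) (g ^ 2) g) := rfl

theorem tor_inj {m : ℕ} (hK : Fintype.card K = 2 ^ (2 * m + 1)) {g : Kˣ} (h : tor hK g = 1) : g = 1 := by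
  have h1 : (T (tc (2 ^ m) (g ^ 2) g) : GL chevF4.Idx K) = T 1 := by
    rw [map_one]
    exact congrArg Subtype.val h
  exact congrFun (T_injective h1) 3

theorem fieldAut_tor {m : ℕ} (hK : Fintype.card K = 2 ^ (2 * m + 1)) (hs : Stab (twistedF4 K (2 ^ m)))
    (τ : K ≃+* K) (g : Kˣ) : fieldAut hs τ (tor hK g) = tor hK (Units.map (τ : K →* K) g) := by
  apply Subtype.ext
  rw [coe_fieldAut, coe_tor, coe_tor, map_T]
  congr 1
  funext i
  fin_cases i
  · show Units.map (τ : K →* K) (g ^ 2 ^ m) = _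
    rw [map_pow]; rfl
  · show Units.map (τ : K →* K) ((g ^ 2) ^ 2 ^ m) = _
    rw [map_pow, map_pow]; rfl
  · show Units.map (τ : K →* K) (g ^ 2) = _
    rw [map_pow]; rfl
  · rfl

/-- a generator of the torus of order `q - 1` is moved by all coprime automorphisms of prime order -/
theorem gen_tor {m : ℕ} (hm : 1 ≤ m) (hK : Fintype.card K = 2 ^ (2 * m + 1)) {g : Kˣ}
    (hg : ∀ x : Kˣ, x ∈ zpowers g) : Gen ↥(twistedF4 K (2 ^ m)) (tor hK g) := by
  have R := row_tf4 hm hK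
  refine Gen.of_hom (fieldAut R.stab) (ConjIn.of_row R) (tor hK) (fieldAut_tor hK R.stab) (c := 1) one_pos
    (fun u hu => by rw [pow_one]; exact tor_inj hK hu) (fun p hp h1 => ?_) hg
  exact absurd hp.two_le (by omega)

/-- **The row of `²F₄(q)`**, model. -/
theorem xRow_model {m : ℕ} (hm : 1 ≤ m) (hK : Fintype.card K = 2 ^ (2 * m + 1)) :
    XRow 2 ↥(twistedF4 K (2 ^ m)) := by
  classical
  intro _
  have : CharP K 2 := F4Fixed.charP_two hK
  obtain ⟨g, hg⟩ := IsCyclic.exists_generator (α := Kˣ)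
  obtain ⟨φ, hφ⟩ := ChevalleyStructure.TwF4.TwistedFix.exists_rln hK
  have hu : ((KFacts.TwF4.Inst.ro hφ 0 1 : ↥(twistedF4 K (2 ^ m))) : GL chevF4.Idx K) = X 33 1 * X 24 1 := by
    show X 33 1 * X 24 (φ 1) = _
    rw [map_one]
  have h24 : chi (tc (2 ^ m) (g ^ 2) g) 24 = 1 := by rw [chi_tc_24, inv_mul_cancel]
  have h33 : chi (tc (2 ^ m) (g ^ 2) g) 33 = 1 := by rw [chi_tc_33, h24, one_pow]
  have hcard : 1 < Fintype.card Kˣ := by
    rw [Fintype.card_units, hK]
    have h1 : 2 ^ 3 ≤ 2 ^ (2 * m + 1) := Nat.pow_le_pow_right (by norm_num) (by omega)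
    omega
  have hg1 : g ≠ 1 := by
    rintro rfl
    have : Nontrivial Kˣ := Fintype.one_lt_card_iff_nontrivial.1 hcard
    obtain ⟨y, hy⟩ := exists_ne (1 : Kˣ)
    obtain ⟨k, hk⟩ := hg y
    exact hy (by rw [← hk]; exact one_zpow k)
  have hu2 : orderOf (KFacts.TwF4.Inst.ro hφ 0 1 : ↥(twistedF4 K (2 ^ m))) = 2 := by
    have : Fact (Nat.Prime 2) := ⟨Nat.prime_two⟩
    refine orderOf_eq_prime ?_ ?_
    · rw [pow_two]
      apply Subtype.ext
      rw [Subgroup.coe_mul, hu]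
      exact u_sq
    · intro h
      exact u_ne g hg1 (hu ▸ congrArg Subtype.val h)
  have hcomm : Commute (tor hK g) (KFacts.TwF4.Inst.ro hφ 0 1) := by
    apply Subtype.ext
    rw [Subgroup.coe_mul, Subgroup.coe_mul, hu, coe_tor]
    have h1 := T_conj_X (tc (2 ^ m) (g ^ 2) g) (r := 33) (by norm_num) (1 : K)
    have h2 := T_conj_X (tc (2 ^ m) (g ^ 2) g) (r := 24) (by norm_num) (1 : K)
    rw [h33] at h1
    rw [h24] at h2
    simp only [Units.val_one, mul_one] at h1 h2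
    rw [mul_inv_eq_iff_eq_mul] at h1 h2
    rw [← mul_assoc, h1, mul_assoc, h2, mul_assoc]
  have hcop : (orderOf (tor hK g)).Coprime (orderOf (KFacts.TwF4.Inst.ro hφ 0 1 : ↥(twistedF4 K (2 ^ m)))) := by
    rw [hu2]
    have h2 : orderOf (tor hK g) ∣ Fintype.card K - 1 := by
      rw [← Fintype.card_units]
      exact (orderOf_map_dvd (tor hK) g).trans (orderOf_dvd_card)
    refine Nat.Coprime.coprime_dvd_left h2 ?_
    rw [hK, Nat.coprime_comm, Nat.prime_two.coprime_iff_not_dvd]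
    have h3 : 2 ∣ 2 ^ (2 * m + 1) := dvd_pow_self 2 (by omega)
    have h4 : 0 < 2 ^ (2 * m + 1) := by positivity
    omega
  refine ⟨tor hK g * KFacts.TwF4.Inst.ro hφ 0 1, ?_, (gen_tor hm hK hg).mul hcomm hcop, fun p hp hpG => ?_⟩
  · rw [hcomm.orderOf_mul_eq_mul_orderOf_of_coprime hcop, hu2]
    exact dvd_mul_left _ _
  · refine (dvd_index_zero hK hφ hp hpG).trans (index_dvd_of_le ?_)
    have h5 : KFacts.TwF4.Inst.ro hφ 0 1 ∈ zpowers (tor hK g * KFacts.TwF4.Inst.ro hφ 0 1) := by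
      rw [hcomm.eq]
      exact mem_zpowers_mul hcomm.symm hcop.symm
    intro y hy
    rw [mem_centralizer_singleton_iff] at hy ⊢
    obtain ⟨k, hk⟩ := h5
    have hk' : KFacts.TwF4.Inst.ro hφ 0 1 = (tor hK g * KFacts.TwF4.Inst.ro hφ 0 1) ^ k := hk.symm
    have h6 : Commute y (tor hK g * KFacts.TwF4.Inst.ro hφ 0 1) := hy
    rw [hk']
    exact (h6.zpow_right k)

/-- **The row of `²F₄(q)`.** -/
theorem xRow_tf4 {K : Type*} [Group K] (h : Cfsg.Lie.Iso2F4 K) : XRow 2 K := by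
  obtain ⟨F, _, _, m, hm, hF, ⟨e⟩⟩ := h
  exact (xRow_model hm hF).mulEquiv e.symm

end gen

end Cfsg.Agent.H680.XRowTwF4
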