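import Cfsg.Agent.H190.Exc.Defs
import Cfsg.Agent.OddCyclic.ClaimC.SzIso
import Cfsg.Agent.H98.SzPartition

/-!
# Task 1573 (EXC-SZ-TF4), first half: the Suzuki groups
-/

set_option autoImplicit false

namespace Cfsg.Agent.H680.Exc

open Cfsg Cfsg.Agent.H190.Exc
open Cfsg.Agent.LieExceptional Cfsg.Agent.LieExceptional.SuzukiSylow
open Cfsg.Agent.H98.SzBasic Cfsg.Agent.H98.SzPartition
open Cfsg.Agent.OddCyclic.ClaimC.SzIso (jj jj_val jj_injective range_eq)

universe u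

/-- an element of order divisible by `r s` gives one of order `r s` -/
theorem exists_mul {G : Type*} [Group G] [Finite G] {r s : ℕ} {x : G}
    (h : r * s ∣ orderOf x) : ∃ z : G, orderOf z = r * s := by
  obtain ⟨k, hk⟩ := h
  have hpos := orderOf_pos x
  have hk0 : k ≠ 0 := by
    rintro rfl
    rw [mul_zero] at hk
    omega
  refine ⟨x ^ k, ?_⟩
  rw [orderOf_pow_of_dvd hk0 (by rw [hk]; exact Dvd.intro_left _ rfl), hk,
    Nat.mul_div_cancel _ (Nat.pos_of_ne_zero hk0)]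

/-- **Pigeonhole**: `ρ` is covered by `k` classes of pairwise adjacent primes -/
theorem card_le_of_cover {G : Type*} [Group G] [Finite G] {ρ : Finset ℕ} (h : Ind G ρ) {k : ℕ}
    (C : Fin k → ℕ → Prop) (hcov : ∀ r ∈ ρ, ∃ i, C i r)
    (hadj : ∀ i, ∀ r ∈ ρ, ∀ s ∈ ρ, r ≠ s → C i r → C i s → ∃ x : G, r * s ∣ orderOf x) : ρ.card ≤ k := by
  classical
  choose c hc using hcov
  let f : ℕ → Fin k ⊕ Unit := fun r => if hr : r ∈ ρ then Sum.inl (c r hr) else Sum.inr ()
  have h1 : ρ.card ≤ (Finset.univ.image (Sum.inl : Fin k → Fin k ⊕ Unit)).card := by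
    refine Finset.card_le_card_of_injOn f ?_ ?_
    · intro r hr
      have hr' : r ∈ ρ := hr
      have : f r = Sum.inl (c r hr') := dif_pos hr'
      rw [this]
      exact Finset.mem_coe.2 (Finset.mem_image.2 ⟨_, Finset.mem_univ _, rfl⟩)
    · intro r hr s hs hrs
      by_contra hne
      have hr' : r ∈ ρ := hr
      have hs' : s ∈ ρ := hs
      have e1 : f r = Sum.inl (c r hr') := dif_pos hr'
      have e2 : f s = Sum.inl (c s hs') := dif_pos hs'
      have e3 : c r hr' = c s hs' := Sum.inl_injective (by rw [← e1, ← e2]; exact hrs)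
      obtain ⟨x, hx⟩ := hadj (c r hr') r hr' s hs' hne (hc r hr') (by rw [e3]; exact hc s hs')
      exact h.not_adj hr' hs' hne (exists_mul hx)
  refine h1.trans (Finset.card_image_le.trans ?_)
  rw [Finset.card_univ, Fintype.card_fin]

section Suz

variable {F : Type*} [Field F] [Fintype F] {m : ℕ}

/-- the isomorphism between the two models -/
noncomputable def iso (hm : 1 ≤ m) (hF : Fintype.card F = 2 ^ (2 * m + 1)) :
    Cfsg.Sz F m ≃* ↥(Cfsg.Lie.Sz F (2 ^ (m + 1))) :=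
  MulEquiv.ofBijective ((jj F m).codRestrict _ (fun g => by rw [range_eq hm hF]; exact ⟨g, rfl⟩)) ⟨by
    intro g h hgh
    exact jj_injective (congrArg Subtype.val hgh), by
    rintro ⟨g, hg⟩
    rw [range_eq hm hF] at hg
    obtain ⟨g0, h⟩ := hg
    exact ⟨g0, Subtype.ext h⟩⟩

theorem card_sz (hm : 1 ≤ m) (hF : Fintype.card F = 2 ^ (2 * m + 1)) {ρ : Finset ℕ} (h : Ind (Cfsg.Sz F m) ρ) :
    ρ.card ≤ 3 := by
  have hfG : Finite (Cfsg.Sz F m) := inferInstance
  -- the torus of a prime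
  have key : ∀ r : ℕ, r ∈ ρ → ∃ x : Cfsg.Sz F m, orderOf x = r ∧
      IsCyclic (Subgroup.centralizer ({x} : Set (Cfsg.Sz F m))) ∧
      Nat.card (Subgroup.centralizer ({x} : Set (Cfsg.Sz F m))) ∈ torusOrders m := by
    intro r hr
    have := Fact.mk (h.prime r hr)
    obtain ⟨x, hx⟩ := exists_prime_orderOf_dvd_card' r (h.dvd r hr)
    have hx1 : x ≠ 1 := by
      rintro rfl
      rw [orderOf_one] at hx
      exact (h.prime r hr).one_lt.ne hx
    refine ⟨x, hx, ?_⟩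
    rcases sylow_or_torus hm hF hx1 with ⟨Q, hQ⟩ | h1
    · exfalso
      obtain ⟨k, hk⟩ := Q.2 ⟨x, hQ⟩
      have h2 : x ^ 2 ^ k = 1 := congrArg Subtype.val hk
      have h3 : orderOf x ∣ 2 ^ k := orderOf_dvd_of_pow_eq_one h2
      rw [hx] at h3
      have h4 := (Nat.prime_dvd_prime_iff_eq (h.prime r hr) Nat.prime_two).1 ((h.prime r hr).dvd_of_dvd_pow h3)
      have h5 := h.ge r hr
      omega
    · exact h1
  let C : Fin 3 → ℕ → Prop := fun i r => r ∣ (![2 ^ (2 * m + 1) - 1, 2 ^ (2 * m + 1) + 2 ^ (m + 1) + 1,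
    2 ^ (2 * m + 1) - 2 ^ (m + 1) + 1] i)
  have hT : ∀ i : Fin 3, (![2 ^ (2 * m + 1) - 1, 2 ^ (2 * m + 1) + 2 ^ (m + 1) + 1,
    2 ^ (2 * m + 1) - 2 ^ (m + 1) + 1] i) ∈ torusOrders m := by
    intro i
    rw [mem_torusOrders_iff]
    fin_cases i
    · exact Or.inl rfl
    · exact Or.inr (Or.inl rfl)
    · exact Or.inr (Or.inr rfl)
  refine card_le_of_cover h C ?_ ?_
  · intro r hr
    obtain ⟨x, hx, -, h2⟩ := key r hr
    have h3 : r ∣ Nat.card (Subgroup.centralizer ({x} : Set (Cfsg.Sz F m))) := by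
      rw [← hx]
      exact Subgroup.orderOf_dvd_natCard _ (Subgroup.mem_centralizer_singleton_iff.2 rfl)
    rcases (mem_torusOrders_iff m _).1 h2 with h4 | h4 | h4 <;> rw [h4] at h3
    · exact ⟨0, h3⟩
    · exact ⟨1, h3⟩
    · exact ⟨2, h3⟩
  · intro i r hr s hs hrs h1 h2
    obtain ⟨x, hx, h3, h4⟩ := key r hr
    have h5 : r ∣ Nat.card (Subgroup.centralizer ({x} : Set (Cfsg.Sz F m))) := by
      rw [← hx]
      exact Subgroup.orderOf_dvd_natCard _ (Subgroup.mem_centralizer_singleton_iff.2 rfl)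
    have h6 := eq_of_prime_dvd h4 (hT i) (h.prime r hr) h5 h1
    have h7 : r * s ∣ Nat.card (Subgroup.centralizer ({x} : Set (Cfsg.Sz F m))) := by
      refine Nat.Coprime.mul_dvd_of_dvd_of_dvd ((Nat.coprime_primes (h.prime r hr) (h.prime s hs)).2 hrs) h5 ?_
      rw [h6]; exact h2
    obtain ⟨g, hg⟩ := h3.exists_generator
    refine ⟨(g : Cfsg.Sz F m), ?_⟩
    rw [Subgroup.orderOf_coe, orderOf_eq_card_of_forall_mem_zpowers hg]
    exact h7

end Suz

/-- **Suzuki groups** (task 1573) -/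
theorem sz_card {G : Type u} [Group G] (hG : Lie.IsoSuzuki G) {ρ : Finset ℕ} (h : Ind G ρ) : ρ.card ≤ 3 := by
  obtain ⟨F, _, _, m, hm, hF, ⟨e⟩⟩ := hG
  exact card_sz hm hF (h.congr (e.trans (iso hm hF).symm))

end Cfsg.Agent.H680.Exc
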