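import Cfsg.Agent.H680.ONThirtyOne
import Cfsg.Agent.H690.Spor.ONRow
import Cfsg.Agent.H709.PB.Guide

/-!
# S4826, the row of the O'Nan group (task 2073; helper680)

`p = 2` : `q = 11` (real, odd centralizer); `p = 7, 19, 31` : `q = 11`; `p = 11` : `q = 19`;
`p = 3, 5` : a degree divisible by `p` and by 11, 19, 31 and 2⁶ is too large.
-/

set_option autoImplicit false
set_option maxRecDepth 100000

namespace Cfsg.Agent.H680.PBON

open Subgroup Cfsg
open Cfsg.Spor (ON)
open Cfsg.Agent.KFacts.ON.Cent (finite_ON)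
open Cfsg.Agent.SporadicB.ON45Word (on)
open Cfsg.Agent.KFacts.ON.Words (vv v)
open Cfsg.Agent.H474.ONC Cfsg.Agent.H133.PB Cfsg.Agent.H709.PB

universe u

theorem cases {p : ℕ} (hp : p.Prime) (h : p ∣ 460815505920) :
    p = 2 ∨ p = 3 ∨ p = 5 ∨ p = 7 ∨ p = 11 ∨ p = 19 ∨ p = 31 := by
  rw [show (460815505920 : ℕ) = 2 ^ 9 * 3 ^ 4 * 5 * 7 ^ 3 * 11 * 19 * 31 by norm_num] at h
  have key : ∀ {r : ℕ}, r.Prime → p ∣ r → p = r := fun hr hd => (Nat.prime_dvd_prime_iff_eq hp hr).1 hd
  rcases hp.dvd_mul.1 h with h | h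
  · rcases hp.dvd_mul.1 h with h | h
    · rcases hp.dvd_mul.1 h with h | h
      · rcases hp.dvd_mul.1 h with h | h
        · rcases hp.dvd_mul.1 h with h | h
          · rcases hp.dvd_mul.1 h with h | h
            · exact Or.inl (key (by norm_num) (hp.dvd_of_dvd_pow h))
            · exact Or.inr (Or.inl (key (by norm_num) (hp.dvd_of_dvd_pow h)))
          · exact Or.inr (Or.inr (Or.inl (key (by norm_num) h)))
        · exact Or.inr (Or.inr (Or.inr (Or.inl (key (by norm_num) (hp.dvd_of_dvd_pow h)))))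
      · exact Or.inr (Or.inr (Or.inr (Or.inr (Or.inl (key (by norm_num) h)))))
    · exact Or.inr (Or.inr (Or.inr (Or.inr (Or.inr (Or.inl (key (by norm_num) h))))))
  · exact Or.inr (Or.inr (Or.inr (Or.inr (Or.inr (Or.inr (key (by norm_num) h))))))

/-- the centralisers of the elements of order 7 have Sylow 2-subgroups of order at most 4 -/
theorem not_16_seven {y : ON} (hy : orderOf y = 7) : ¬ 16 ∣ Nat.card (centralizer ({y} : Set ON)) := by
  intro h
  have hfin := finite_ON
  have h2F : Fact (Nat.Prime 2) := ⟨Nat.prime_two⟩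
  obtain ⟨z, hz, hzy⟩ := exists_comm (x := y) Nat.prime_two ((by norm_num : 2 ∣ 16).trans h)
  obtain ⟨g, hg⟩ := Cfsg.Agent.CpAut.SporThree.ON.f_conj hz
  have ho : orderOf (g * y * g⁻¹) = 7 := by
    rw [← hy]
    exact orderOf_injective (MulAut.conj g).toMonoidHom (MulAut.conj g).injective y
  have hc : g * y * g⁻¹ * on .f = on .f * (g * y * g⁻¹) := by
    rw [← hg]
    calc g * y * g⁻¹ * (g * z * g⁻¹) = g * (y * z) * g⁻¹ := by group
      _ = g * (z * y) * g⁻¹ := by rw [hzy]
      _ = g * z * g⁻¹ * (g * y * g⁻¹) := by group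
  have hJ := mem_J_of_odd (Cfsg.Agent.KFacts.ON.Struct.mem_K0.2 hc) (by decide : Odd 7) (by rw [← ho]; exact pow_orderOf_eq_one _)
  obtain ⟨P, hP⟩ := (loc_seven ho hJ).exists_sylow
  have h4 : Nat.card (P : Subgroup ↥(centralizer ({g * y * g⁻¹} : Set ON))) = 4 := by
    rw [← Subgroup.card_map_of_injective (f := (centralizer ({g * y * g⁻¹} : Set ON)).subtype) (subtype_injective _), hP,
      Nat.card_zpowers, order_v]
  rw [P.card_eq_multiplicity] at h4
  have h16 : 16 ∣ Nat.card (centralizer ({g * y * g⁻¹} : Set ON)) := by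
    rw [Cfsg.Agent.H690.Spor.ONRow.centralizer_conj g y]
    exact h
  have h5 : 4 ≤ (Nat.card (centralizer ({g * y * g⁻¹} : Set ON))).factorization 2 :=
    (Nat.prime_two.pow_dvd_iff_le_factorization Nat.card_pos.ne').1 (by norm_num; exact h16)
  have h6 : 2 ^ 4 ≤ 2 ^ (Nat.card (centralizer ({g * y * g⁻¹} : Set ON))).factorization 2 := Nat.pow_le_pow_right (by norm_num) h5
  omega

theorem not_16 {y : ON} (hy : (orderOf y).Prime) (h2 : orderOf y ≠ 2) : ¬ 16 ∣ Nat.card (centralizer ({y} : Set ON)) := by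
  have hfin := finite_ON
  have hd : orderOf y ∣ 460815505920 := by rw [← card_ON]; exact orderOf_dvd_natCard y
  rcases cases hy hd with h | h | h | h | h | h | h
  · exact absurd h h2
  · exact Cfsg.Agent.CpAut.SporThree.ON.not_16 h
  · rw [card_cent_five h]; norm_num
  · exact not_16_seven h
  · rw [card_cent_eleven h]; norm_num
  · rw [ONThirtyOne.card_cent_nineteen h]; norm_num
  · rw [ONThirtyOne.card_cent h]; norm_num

theorem nb_two : NB 2 6 ON := by
  have hfin := finite_ON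
  have h2F : Fact (Nat.Prime 2) := ⟨Nat.prime_two⟩
  exact NB.of_orders (a := 9) (by rw [card_ON]; norm_num) fun y hy h2 => by
    have := not_16 hy h2
    norm_num
    exact this

theorem nb_self {q : ℕ} (hq : q.Prime) {y : ON} (hy : orderOf y = q)
    (hc : Nat.card (centralizer ({y} : Set ON)) = q) : NB q 1 ON := by
  have hfin := finite_ON
  have hqF : Fact q.Prime := ⟨hq⟩
  exact NB.of_self (g := y) (IsPGroup.of_card (n := 1) (by rw [hc, pow_one])) ⟨1, by rw [hy, pow_one]⟩

theorem exists_31 : ∃ y : ON, orderOf y = 31 ∧ Nat.card (centralizer ({y} : Set ON)) = 31 := by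
  have hfin := finite_ON
  have hqF : Fact (Nat.Prime 31) := ⟨by norm_num⟩
  obtain ⟨y, hy⟩ := exists_prime_orderOf_dvd_card' (G := ON) 31 (by rw [card_ON]; norm_num)
  exact ⟨y, hy, ONThirtyOne.card_cent hy⟩

theorem row_of_IM {p : ℕ} (hp : p = 3 ∨ p = 5) (h : Cfsg.Agent.H33.IM p ON) : Row p ON := by
  have hfin := finite_ON
  obtain ⟨y11, h11, c11⟩ := exists_eleven
  obtain ⟨y19, h19, c19⟩ := exists_nineteen
  obtain ⟨y31, h31, c31⟩ := exists_31
  have hpp : p.Prime := by rcases hp with rfl | rfl <;> norm_num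
  refine Row.of_IM hpp h [(11, 1), (19, 1), (31, 1), (2, 6)] (by decide) ?_ ?_
  · intro x hx
    simp only [List.mem_cons, List.not_mem_nil, or_false] at hx
    rw [card_ON]
    rcases hx with rfl | rfl | rfl | rfl
    · exact ⟨by norm_num, by rcases hp with rfl | rfl <;> norm_num, by norm_num, nb_self (by norm_num) h11 c11⟩
    · exact ⟨by norm_num, by rcases hp with rfl | rfl <;> norm_num, by norm_num, nb_self (by norm_num) h19 c19⟩
    · exact ⟨by norm_num, by rcases hp with rfl | rfl <;> norm_num, by norm_num, nb_self (by norm_num) h31 c31⟩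
    · exact ⟨by norm_num, by rcases hp with rfl | rfl <;> norm_num, by norm_num, nb_two⟩
  · rw [card_ON]
    rcases hp with rfl | rfl <;> norm_num

/-- real elements -/
theorem isConj_inv {p m : ℕ} (hp : p.Prime) {y w : ON} (hy : orderOf y = p) (hw : orderOf w = 2 * m) (hm : m ≠ 0)
    (hyw : w * y * w⁻¹ ∈ zpowers y) (hodd : ¬ 2 ∣ Nat.card (centralizer ({y} : Set ON))) : IsConj y y⁻¹ := by
  have hfin := finite_ON
  have hpF : Fact p.Prime := ⟨hp⟩
  set t := w ^ m with ht
  have ht2 : orderOf t = 2 := by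
    rw [ht, orderOf_pow, hw, Nat.gcd_eq_right (Dvd.intro_left 2 rfl), Nat.mul_div_cancel _ (Nat.pos_of_ne_zero hm)]
  have htt : t * t = 1 := by rw [← sq, ← ht2, pow_orderOf_eq_one]
  have hwN : w ∈ normalizer ((zpowers y : Subgroup ON) : Set ON) := mem_normalizer_of_conj hyw
  have htN : t ∈ normalizer ((zpowers y : Subgroup ON) : Set ON) := pow_mem hwN m
  have hty : t * y * t⁻¹ ∈ zpowers y := (mem_normalizer_iff.1 htN y).1 (mem_zpowers y)
  obtain ⟨i, hi⟩ := hty
  have hi' : y ^ i = t * y * t⁻¹ := hi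
  have hii : y ^ (i * i) = y := by
    rw [zpow_mul, hi', conj_zpow, hi']
    have : t⁻¹ = t := inv_eq_of_mul_eq_one_left htt
    calc t * (t * y * t⁻¹) * t⁻¹ = (t * t) * y * (t * t)⁻¹ := by group
      _ = y := by rw [htt, one_mul, inv_one, mul_one]
  have h1 : y ^ (i * i - 1) = 1 := by rw [zpow_sub, hii, zpow_one, mul_inv_cancel]
  have h2 : (p : ℤ) ∣ i * i - 1 := by rw [← hy]; exact orderOf_dvd_iff_zpow_eq_one.2 h1
  have h3 : i * i - 1 = (i - 1) * (i + 1) := by ring
  rw [h3] at h2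
  rcases (Nat.prime_iff_prime_int.1 hp).dvd_or_dvd h2 with h4 | h4
  · exfalso
    have h5 : y ^ (i - 1) = 1 := orderOf_dvd_iff_zpow_eq_one.1 (by rw [hy]; exact h4)
    have h6 : y ^ i = y := by
      rw [zpow_sub, zpow_one, mul_inv_eq_one] at h5
      exact h5
    rw [hi'] at h6
    apply hodd
    rw [← ht2]
    exact dvd_cent (mul_inv_eq_iff_eq_mul.1 h6)
  · have h5 : y ^ (i + 1) = 1 := orderOf_dvd_iff_zpow_eq_one.1 (by rw [hy]; exact h4)
    have h6 : y ^ i = y⁻¹ := by
      rw [zpow_add, zpow_one] at h5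
      exact eq_inv_of_mul_eq_one_left h5
    exact isConj_iff.2 ⟨t, by rw [← hi', h6]⟩

theorem real_eleven : ∃ y : ON, orderOf y = 11 ∧ Nat.card (centralizer ({y} : Set ON)) = 11 ∧ IsConj y y⁻¹ := by
  obtain ⟨y, w, hy, hw, hyw, -⟩ := of_J1 (p := 11) (m := 10) (by norm_num) (by norm_num) H389.JFacts.frob_eleven
  have hc := card_cent_eleven hy
  exact ⟨y, hy, hc, isConj_inv (m := 5) (by norm_num) hy (by rw [hw]) (by norm_num) hyw (by rw [hc]; norm_num)⟩

theorem real_nineteen : ∃ y : ON, orderOf y = 19 ∧ Nat.card (centralizer ({y} : Set ON)) = 19 ∧ IsConj y y⁻¹ := by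
  obtain ⟨y, w, hy, hw, hyw, -⟩ := of_J1 (p := 19) (m := 6) (by norm_num) (by norm_num) H389.JFacts.frob_nineteen
  have hc := ONThirtyOne.card_cent_nineteen hy
  exact ⟨y, hy, hc, isConj_inv (m := 3) (by norm_num) hy (by rw [hw]) (by norm_num) hyw (by rw [hc]; norm_num)⟩

theorem row_two : Row 2 ON := by
  have hfin := finite_ON
  have h11F : Fact (Nat.Prime 11) := ⟨by norm_num⟩
  obtain ⟨y, hy, hc, hr⟩ := real_eleven
  refine Row.of_real_odd (q := 11) ⟨1, by rw [hy, pow_one]⟩ ?_ hr (by rw [hc]; decide)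
  rintro rfl
  rw [orderOf_one] at hy
  omega

theorem row_eleven {p : ℕ} (hp : p = 7 ∨ p = 19 ∨ p = 31) : Row p ON := by
  have hfin := finite_ON
  have h11F : Fact (Nat.Prime 11) := ⟨by norm_num⟩
  have hpF : Fact p.Prime := ⟨by rcases hp with rfl | rfl | rfl <;> norm_num⟩
  obtain ⟨y, hy, hc, hr⟩ := real_eleven
  refine Row.of_inverted (q := 11) (by norm_num) (by rcases hp with rfl | rfl | rfl <;> norm_num)
    (by rw [card_ON]; norm_num) hy hr hc fun t ht _ => ?_
  rw [card_ON, Cfsg.Agent.H690.Spor.ONRow.card_inv ht]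
  rcases hp with rfl | rfl | rfl
  · exact ⟨3, by norm_num, by norm_num⟩
  · exact ⟨1, by norm_num, by norm_num⟩
  · exact ⟨1, by norm_num, by norm_num⟩

theorem row_nineteen : Row 11 ON := by
  have hfin := finite_ON
  have h11F : Fact (Nat.Prime 11) := ⟨by norm_num⟩
  have h19F : Fact (Nat.Prime 19) := ⟨by norm_num⟩
  obtain ⟨y, hy, hc, hr⟩ := real_nineteen
  refine Row.of_inverted (q := 19) (by norm_num) (by norm_num)
    (by rw [card_ON]; norm_num) hy hr hc fun t ht _ => ?_
  rw [card_ON, Cfsg.Agent.H690.Spor.ONRow.card_inv ht]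
  exact ⟨1, by norm_num, by norm_num⟩

/-- the row, from the Itô-Michler facts at 3 and 5 -/
theorem row_of (h3 : Cfsg.Agent.H33.IM 3 ON) (h5 : Cfsg.Agent.H33.IM 5 ON) {p : ℕ} (hp : p.Prime) (hd : p ∣ Nat.card ON) :
    Row p ON := by
  rw [card_ON] at hd
  rcases cases hp hd with rfl | rfl | rfl | rfl | rfl | rfl | rfl
  · exact row_two
  · exact row_of_IM (Or.inl rfl) h3
  · exact row_of_IM (Or.inr rfl) h5
  · exact row_eleven (Or.inl rfl)
  · exact row_nineteen
  · exact row_eleven (Or.inr (Or.inl rfl))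
  · exact row_eleven (Or.inr (Or.inr rfl))

end Cfsg.Agent.H680.PBON
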