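import Mathlib
import Cfsg.Agent.H933.SubTwist
import Cfsg.Agent.H933.SubChev
import Cfsg.Agent.H69.OutTwD4
import Cfsg.Agent.H69.OutGF
import Cfsg.Agent.S2121
import Cfsg.Agent.S2129
import Cfsg.Prelude.Def_KGroupFacts

/-!
# `Out(G₂(q))`, `Out(³D₄(q))`: subgroups without normal subgroup of index two (helper680, task 279, S3102)
-/

set_option autoImplicit false
set_option linter.unusedSectionVars false

namespace Cfsg.Agent.H680.OutOdd

open Subgroup

theorem odd_of {X : Type*} [Group X] [Finite X] (C : Subgroup X) (hc : IsCyclic C) (hC : C.index ∣ 2) (H : Subgroup X)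
    (hH : ∀ N : Subgroup H, N.Normal → N.index ≠ 2) : Odd (Nat.card H) := by
  have hN : C.Normal := by
    rcases (Nat.dvd_prime Nat.prime_two).1 hC with h | h
    · rw [index_eq_one.1 h]
      infer_instance
    · exact normal_of_index_eq_two h
  have h1 : C.relIndex H ∣ 2 := (relIndex_dvd_index_of_normal C H).trans hC
  have h2 : C.relIndex H = 1 := by
    rcases (Nat.dvd_prime Nat.prime_two).1 h1 with h | h
    · exact h
    · exact (hH (C.subgroupOf H) inferInstance h).elim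
  rw [relIndex_eq_one] at h2
  have h3 : IsCyclic H := isCyclic_of_injective (inclusion h2) (inclusion_injective h2)
  rw [← Nat.not_even_iff_odd]
  intro he
  obtain ⟨g, hg⟩ := h3.exists_generator
  have h4 : orderOf g = Nat.card H := orderOf_eq_card_of_forall_mem_zpowers hg
  have hcm : IsMulCommutative H := IsCyclic.isMulCommutative
  refine hH (zpowers (g ^ 2)) ?_ ?_
  · exact ⟨fun n hn x => by rw [mul_comm' x n, mul_inv_cancel_right]; exact hn⟩
  · have h5 : orderOf (g ^ 2) = Nat.card H / 2 := by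
      rw [orderOf_pow' g two_ne_zero, h4, Nat.gcd_eq_right he.two_dvd]
    have h6 := (zpowers (g ^ 2)).index_mul_card
    rw [Nat.card_zpowers, h5] at h6
    have h7 : 0 < Nat.card H := Nat.card_pos
    obtain ⟨k, hk⟩ := he.two_dvd
    rw [hk, Nat.mul_div_cancel_left k two_pos] at h6
    have hk0 : 0 < k := by omega
    exact Nat.eq_of_mul_eq_mul_right hk0 h6

theorem odd_of_elt {X : Type*} [Group X] [Finite X] {n : ℕ} (hn : 0 < n) (x : X) (hx : n ∣ orderOf x)
    (hX : Nat.card X ∣ 2 * n) (H : Subgroup X) (hH : ∀ N : Subgroup H, N.Normal → N.index ≠ 2) :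
    Odd (Nat.card H) := by
  refine odd_of (zpowers x) inferInstance ?_ H hH
  have h1 := (zpowers x).index_mul_card
  rw [Nat.card_zpowers] at h1
  have h2 : (zpowers x).index * n ∣ 2 * n := (mul_dvd_mul_left _ hx).trans (h1 ▸ hX)
  exact Nat.dvd_of_mul_dvd_mul_right hn h2

theorem out_G2 {F : Type*} [Field F] [Fintype F] (hF : Odd (Fintype.card F))
    (H : Subgroup (Cfsg.Out ↥(Cfsg.Lie.chevG2.group F))) (hH : ∀ N : Subgroup H, N.Normal → N.index ≠ 2) :
    Odd (Nat.card H) := by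
  obtain ⟨p, hp⟩ := CharP.exists F
  obtain ⟨f, hpr, hf⟩ := FiniteField.card F p
  have := Fact.mk hpr
  have h3 : 3 ≤ p ^ (f : ℕ) := by
    rw [← hf]
    have h1 : 1 < Fintype.card F := Fintype.one_lt_card
    obtain ⟨k, hk⟩ := hF
    omega
  have hcard := Cfsg.Agent.S2121.result (F := F) p f hf h3
  obtain ⟨σ, hσ⟩ := H933.SubField.exists_orderOf f.pos hf
  obtain ⟨x, hx⟩ := H933.SubChev.exists_out H69.OutGF.hG2 σ
  rw [hσ] at hx
  have hfin : Finite (Cfsg.Out ↥(Cfsg.Lie.chevG2.group F)) := by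
    have : Finite ↥(Cfsg.Lie.chevG2.group F) := inferInstance
    infer_instance
  refine odd_of_elt f.pos x hx ?_ H hH
  rw [hcard]
  split_ifs
  · exact dvd_rfl
  · exact dvd_mul_left _ _

section D4

open CoxeterSystem Cfsg.Agent.ChevalleyStructure.CoxeterGeom Cfsg.Agent.Tits.Roots Cfsg.Agent.Tits.Core
  Cfsg.Agent.Tits.Exchange Cfsg.Agent.Nodes.Reps Cfsg.Agent.Nodes.BNOf Cfsg.Agent.Nodes.StabComb
  Cfsg.Agent.Nodes.Bruhat Cfsg.Agent.Nodes.OppDec Cfsg.Agent.Nodes.RGDTwGen Cfsg.Agent.Nodes.RGDChev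
  Cfsg.Agent.Nodes.RGDFold Cfsg.Agent.Nodes.RGDFoldSL
open Cfsg.Agent.KFacts.RgdOpp Cfsg.Agent.KFacts.RgdAut Cfsg.Agent.KFacts.RgdDiag Cfsg.Agent.KFacts.RgdRigid
  Cfsg.Agent.KFacts.RgdField Cfsg.Agent.KFacts.RgdTau Cfsg.Agent.KFacts.RgdNodes
open Cfsg Cfsg.Lie Cfsg.Agent.ChevalleyStructure Cfsg.Agent.ChevalleyStructure.Elts Cfsg.Agent.ChevStructure.FieldMap
open Cfsg.Agent.ChevalleyStructure.SL2Hom (up lo)
open Cfsg.Agent.KFacts.TwDFour.Out
open Cfsg.Agent.Nodes.RGDTwD4 Cfsg.Agent.Nodes.RGDTwNode.D4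
open Cfsg.Agent.ParSys.Fam.D4 (hf)
open Cfsg.Agent.CpAut.RgdTwStd
open Cfsg.Agent.H69.OutCount Cfsg.Agent.H69.OutTwD4
open Cfsg.Agent.H933.SubCount

universe u

theorem exists_out {K : Type u} [Field K] [Fintype K] {q : ℕ} (hq : IsPrimePow q) (hK : Fintype.card K = q ^ 3) (p : ℕ)
    [Fact p.Prime] [CharP K p] (σ : K ≃+* K) : ∃ x : Cfsg.Out ↥(twistedD4 K q), orderOf σ ∣ orderOf x := by
  obtain ⟨φ, hφ⟩ := D4Fixed.exists_frob hq hK
  let cs : CoxeterSystem CoxeterMatrix.G₂ CoxeterMatrix.G₂.Group := CoxeterMatrix.G₂.toCoxeterSystem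
  have hfin : Finite CoxeterMatrix.G₂.Group := finiteW cs
  have R := Cfsg.Agent.Nodes.RGDTwD4.rgd cs hK hφ p
  have hG1 : RGD.Sup (X φ q) {x | IsRoot cs isCartan x} = ⊤ := G1_eq_top cs hK hφ
  refine ⟨_, Cfsg.Agent.H933.SubField.dvd_orderOf (st q σ) fun k g hg => ?_⟩
  have hpow : ∀ k : ℕ, DTau hφ hK (st q σ ^ k) (σ ^ k) := by
    intro k
    induction k with
    | zero => rw [pow_zero, pow_zero]; exact DTau.one hφ hK
    | succ k ih => rw [pow_succ, pow_succ]; exact ih.mul hφ hK (dtau_st hφ hK σ cs p)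
  have h1 := hpow k
  rw [hg] at h1
  have h2 := mem_T_of_diag R hG1 h1.diag
  exact h1.unique hφ hK (dtau_conj hφ hK cs p h2)

theorem out_D4 {K : Type u} [Field K] [Fintype K] {q : ℕ} (hq : Odd q) (hK : Fintype.card K = q ^ 3)
    (H : Subgroup (Cfsg.Out ↥(Cfsg.Lie.twistedD4 K q))) (hH : ∀ N : Subgroup H, N.Normal → N.index ≠ 2) :
    Odd (Nat.card H) := by
  have hq' : IsPrimePow q := by
    obtain ⟨p, hp⟩ := CharP.exists K
    obtain ⟨f, hpr, hf⟩ := FiniteField.card K p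
    have h1 : IsPrimePow (q ^ 3) := by
      rw [← hK, hf]
      exact hpr.isPrimePow.pow f.ne_zero
    exact (isPrimePow_pow_iff (by norm_num)).1 h1
  obtain ⟨p, f, hp, hf, rfl⟩ := (isPrimePow_nat_iff q).1 hq'
  have hfp : Fact p.Prime := ⟨hp⟩
  have hK' : Fintype.card K = p ^ (3 * f) := by rw [hK, ← pow_mul, mul_comm]
  have hch : CharP K p := charP_of_card_eq_prime_pow hK'
  have hcard := Cfsg.Agent.S2129.result (K := K) p f hK' hf
  obtain ⟨σ, hσ⟩ := H933.SubField.exists_orderOf (show 1 ≤ 3 * f by omega) hK'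
  obtain ⟨x, hx⟩ := exists_out hq' hK p σ
  rw [hσ] at hx
  have hfin : Finite (Cfsg.Out ↥(twistedD4 K (p ^ f))) := by
    have : Finite ↥(twistedD4 K (p ^ f)) := inferInstance
    infer_instance
  exact odd_of_elt (by omega) x hx (by rw [hcard]; exact dvd_mul_left _ _) H hH

end D4

end Cfsg.Agent.H680.OutOdd
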