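import Cfsg.Agent.H698.Fine
import Cfsg.Agent.H203.LSRank
import Cfsg.Agent.H412.ReeOut

/-!
# The condition `Fine` for `PSL₂(q)`
-/

set_option autoImplicit false

universe u w

namespace Cfsg.Agent.H680.FinePSL

open Matrix Cfsg.Agent.H698

theorem suff {p m A : ℕ} (hp : 11 ≤ p) (hm : 1 ≤ m) (h : A ≤ p ^ (m - 1)) : (p - 9) * A + 1 < p ^ m := by
  obtain ⟨n, rfl⟩ : ∃ n, m = n + 1 := ⟨m - 1, by omega⟩
  rw [Nat.add_sub_cancel] at h
  obtain ⟨r, rfl⟩ : ∃ r, p = r + 9 := ⟨p - 9, by omega⟩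
  have h1 : 1 ≤ (r + 9) ^ n := Nat.one_le_pow _ _ (by omega)
  have h2 : r * A ≤ r * (r + 9) ^ n := Nat.mul_le_mul_left _ h
  rw [Nat.add_sub_cancel, pow_succ]
  nlinarith

theorem pow4 {k : ℕ} (hk : 5 ≤ k) : (2 * k + 1) ^ 4 ≤ 11 ^ (k - 1) := by
  induction k, hk using Nat.le_induction with
  | base => norm_num
  | succ k hk ih =>
    obtain ⟨n, rfl⟩ : ∃ n, k = n + 5 := ⟨k - 5, by omega⟩
    have h1 : n + 5 + 1 - 1 = (n + 5 - 1) + 1 := by omega
    rw [h1, pow_succ]
    refine le_trans ?_ (Nat.mul_le_mul_right 11 ih)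
    have : (2 * (n + 5 + 1) + 1) ^ 4 ≤ (2 * (n + 5) + 1) ^ 4 * 11 := by
      ring_nf
      gcongr <;> norm_num
    exact this

theorem fine {F : Type} [Field F] [Fintype F] (hq : 4 ≤ Fintype.card F) (h9 : Fintype.card F ≠ 9) :
    Fine.{0, w} (ProjectiveSpecialLinearGroup (Fin 2) F) := by
  classical
  obtain ⟨p₀, hp₀⟩ := CharP.exists F
  obtain ⟨⟨f, hf⟩, hpp, hF⟩ := FiniteField.card F p₀
  simp only [PNat.mk_coe] at hF
  have hA := Cfsg.Agent.H412.ReeOut.card_mulAut hpp hf hF hq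
  have hG := Cfsg.Agent.ClassicalGeometry.PSL2Basic.card_PSL2_gcd (F := F)
  have hf2 : f < p₀ ^ f := Nat.lt_pow_self hpp.one_lt
  rw [mul_assoc, mul_comm (Nat.gcd _ _), hG] at hA
  have hS : IsSimpleGroup (ProjectiveSpecialLinearGroup (Fin 2) F) :=
    Matrix.ProjectiveSpecialLinearGroup.rank_two_simple (by rw [Nat.card_eq_fintype_card]; omega)
  have hj : (QuotientGroup.mk' (Subgroup.center (SpecialLinearGroup (Fin 2) F)))
      (Cfsg.Agent.H203.BdSL2.up 1) ≠ 1 := by
    intro h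
    rw [← MonoidHom.mem_ker, QuotientGroup.ker_mk'] at h
    exact one_ne_zero (Cfsg.Agent.H203.BdSL2.up_center h)
  generalize hqq : Fintype.card F = q at *
  have hgcd : Nat.gcd 2 (q - 1) = 1 ∨ Nat.gcd 2 (q - 1) = 2 :=
    (Nat.dvd_prime Nat.prime_two).1 (Nat.gcd_dvd_left 2 (q - 1))
  have hpG : p₀ ∣ Nat.card (ProjectiveSpecialLinearGroup (Fin 2) F) := by
    have h1 : p₀ ∣ q := by rw [hF]; exact dvd_pow_self _ (by omega)
    have h2 : Nat.Coprime p₀ (Nat.gcd 2 (q - 1)) := by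
      rw [Nat.Prime.coprime_iff_not_dvd hpp]
      intro h3
      have h4 : p₀ ∣ q - 1 := h3.trans (Nat.gcd_dvd_right _ _)
      have h5 : p₀ ∣ 1 := by
        have := (Nat.dvd_sub h1 h4)
        rwa [Nat.sub_sub_self (by omega)] at this
      exact hpp.one_lt.ne' (Nat.dvd_one.1 h5)
    refine h2.dvd_of_dvd_mul_right (n := Nat.gcd 2 (q - 1)) ?_
    rw [hG]
    exact Dvd.dvd.mul_right h1 _
  have hq2 : q ^ 2 - 1 ≤ q ^ 2 := Nat.sub_le _ _
  have hT : 42 < Nat.card (ProjectiveSpecialLinearGroup (Fin 2) F) := by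
    by_cases h4 : q = 4
    · rw [h4, show Nat.gcd 2 (4 - 1) = 1 from rfl, mul_one] at hG
      rw [hG]
      norm_num
    · have h5 : 5 ≤ q := by omega
      have h6 : 24 ≤ q ^ 2 - 1 := by
        have : 25 ≤ q ^ 2 := by nlinarith
        omega
      have h7 : 5 * 24 ≤ q * (q ^ 2 - 1) := Nat.mul_le_mul h5 h6
      rw [← hG] at h7
      rcases hgcd with h | h <;> rw [h] at h7 <;> omega
  refine Fine.of_lt5 (Cfsg.Agent.H412.ReeOut.psl_center (by omega)) hT fun p m hp h11 hpT hm hR => ?_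
  by_cases h7 : q ≤ 7
  · have hf3 : f ≤ 2 := by
      by_contra hcon
      have : p₀ ^ 3 ≤ p₀ ^ f := Nat.pow_le_pow_right hpp.pos (by omega)
      have : 2 ^ 3 ≤ p₀ ^ 3 := Nat.pow_le_pow_left hpp.two_le 3
      omega
    have hp2 : 11 ^ 2 ≤ p ^ (m - 1) :=
      (Nat.pow_le_pow_left h11 2).trans (Nat.pow_le_pow_right (by omega) (by omega))
    have hp3 : p ^ 3 ≤ p ^ m := Nat.pow_le_pow_right (by omega) hm
    have h6 : ∀ p f : ℕ, p.Prime → 2 ≤ f → f ≤ 2 → p ^ f = q → q = 4 := by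
      intro a b ha hb hb2 hab
      obtain rfl : b = 2 := by omega
      have : a < 3 := by
        by_contra hcon
        have : 3 ^ 2 ≤ a ^ 2 := Nat.pow_le_pow_left (by omega) 2
        omega
      have := ha.two_le
      obtain rfl : a = 2 := by omega
      omega
    by_cases h4 : q = 4
    · apply suff h11 (by omega)
      refine le_trans ?_ hp2
      rw [hA, h4]
      omega
    · have hf1 : f = 1 := by
        by_contra hcon
        exact h4 (h6 p₀ f hpp (by omega) hf3 hF.symm)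
      rw [hf1, pow_one] at hF
      have hne : q ≠ 6 := by
        intro h
        rw [← hF, h] at hpp
        revert hpp
        norm_num
      rw [hf1, one_mul] at hA
      rcases (by omega : q = 5 ∨ q = 7) with h5 | h5
      · apply suff h11 (by omega)
        refine le_trans ?_ hp2
        rw [hA, h5]
        norm_num
      · rw [hA, h5]
        refine lt_of_lt_of_le ?_ hp3
        obtain ⟨t, rfl⟩ : ∃ t, p = t + 11 := ⟨p - 11, by omega⟩
        have : t + 11 - 9 = t + 2 := by omega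
        rw [this]
        ring_nf
        have : 0 ≤ t ^ 2 := Nat.zero_le _
        have : 0 ≤ t ^ 3 := Nat.zero_le _
        omega
  · have hLS := Cfsg.Agent.H203.LS.LS.sl2.{0, w, w} (r := p₀) hqq (by omega) h9
      (T := ProjectiveSpecialLinearGroup (Fin 2) F)
      (QuotientGroup.mk' (Subgroup.center (SpecialLinearGroup (Fin 2) F))) hj
    have hd := Rep.le_of_LS hp hpp hpG hpT hR hLS
    apply suff h11 (by omega)
    rw [hA]
    generalize hdd : (q - 1) / Nat.gcd 2 (q - 1) = d at *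
    have h1 : 11 ^ (d - 1) ≤ p ^ (m - 1) :=
      (Nat.pow_le_pow_left h11 _).trans (Nat.pow_le_pow_right (by omega) (by omega))
    refine le_trans ?_ h1
    by_cases h8 : q = 8
    · have h9 : d = 7 := by
        rw [← hdd, h8]
        norm_num
      have h10 : f ≤ 3 := by
        by_contra hcon
        have : p₀ ^ 4 ≤ p₀ ^ f := Nat.pow_le_pow_right hpp.pos (by omega)
        have : 2 ^ 4 ≤ p₀ ^ 4 := Nat.pow_le_pow_left hpp.two_le 4
        omega
      rw [h9, h8]
      norm_num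
      omega
    · have h10 : q ≠ 10 := by
        intro h
        have h2 : (2 : ℕ) ∣ p₀ ^ f := by rw [← hF, h]; norm_num
        have h5 : (5 : ℕ) ∣ p₀ ^ f := by rw [← hF, h]; norm_num
        have h3 := (Nat.prime_dvd_prime_iff_eq Nat.prime_two hpp).1 (Nat.prime_two.dvd_of_dvd_pow h2)
        have h4 := (Nat.prime_dvd_prime_iff_eq Nat.prime_five hpp).1 (Nat.prime_five.dvd_of_dvd_pow h5)
        omega
      have h11q : 11 ≤ q := by omega
      have h2 : 5 ≤ d ∧ q ≤ 2 * d + 1 := by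
        rcases hgcd with h | h
        · rw [h, Nat.div_one] at hdd
          omega
        · have := Nat.div_mul_cancel (Nat.gcd_dvd_right 2 (q - 1))
          rw [h] at hdd this
          omega
      refine le_trans ?_ (pow4 h2.1)
      calc f * (q * (q ^ 2 - 1)) ≤ q * (q * q ^ 2) := Nat.mul_le_mul (by omega) (Nat.mul_le_mul_left _ hq2)
        _ = q ^ 4 := by ring
        _ ≤ _ := Nat.pow_le_pow_left h2.2 4

end Cfsg.Agent.H680.FinePSL

namespace Cfsg.Agent.H680

theorem fine_psl2 {T : Type u} [Group T] [Finite T] {F : Type} [Field F] [Fintype F]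
    (hq : 4 ≤ Fintype.card F) (h9 : Fintype.card F ≠ 9)
    (e : T ≃* Matrix.ProjectiveSpecialLinearGroup (Fin 2) F) : Cfsg.Agent.H698.Fine.{u, u} T :=
  (FinePSL.fine hq h9).congr e.symm

end Cfsg.Agent.H680
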