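import Cfsg.Agent.H680.TRowBase
import Cfsg.Agent.H967.CopTw
import Cfsg.Agent.H28.ExcRowTw
import Cfsg.Agent.GH.LowRankD4

/-!
# `TRow r (²E₆(q))` (helper680, for S4952, S4938, S4939, S4128, S4129)
-/

set_option autoImplicit false
set_option linter.unusedSectionVars false

namespace Cfsg.Agent.H680.TRowE6

open CoxeterSystem Cfsg.Agent.ChevalleyStructure.CoxeterGeom Cfsg.Agent.Tits.Roots Cfsg.Agent.Tits.Core
  Cfsg.Agent.Tits.Exchange Cfsg.Agent.Nodes.Reps Cfsg.Agent.Nodes.BNOf Cfsg.Agent.Nodes.StabComb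
  Cfsg.Agent.Nodes.Bruhat Cfsg.Agent.Nodes.OppDec Cfsg.Agent.Nodes.RGDChev Cfsg.Agent.Nodes.RGDTwGen
  Cfsg.Agent.Nodes.RGDFold Cfsg.Agent.Nodes.RGDFoldSL
  Cfsg.Agent.KFacts.RgdAut Cfsg.Agent.KFacts.RgdDiag Cfsg.Agent.KFacts.RgdRigid
  Cfsg.Agent.KFacts.RgdField
open Cfsg.Lie Cfsg.Agent.ChevalleyStructure Cfsg.Agent.ChevalleyStructure.Elts Cfsg.Agent.ChevalleyStructure.TwistedU
open Cfsg.Agent.H28.SLTwoRow Cfsg.Agent.H28.FrameRow Cfsg.Agent.H28.ExcRow Cfsg.Agent.H28.ExcRowTw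
open Cfsg.Agent.ChevalleyStructure.SL2Hom (up lo mem_closure_SL2)
open Subgroup (mem_centralizer_singleton_iff mem_sup_left mem_sup_right mem_inf mem_subgroupOf centralizer coe_mul)
open Cfsg.Agent.H716.CopRow Cfsg.Agent.H967.CopMat Cfsg.Agent.H680.TRowBase

universe u v

section Gen

variable {I W : Type*} [Fintype I] [DecidableEq I] [Group W] {L : Type v} [Group L] {M : CoxeterMatrix I}
  {cs : CoxeterSystem M W} {A : I → I → ℤ} {hA : IsCartan M A} {r : ℕ} {T : Subgroup L} {n : I → L}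
  {X : (I → ℤ) → Subgroup L} (R : RGD cs hA r T n X)

include R

/-- the rank one groups of orthogonal nodes commute -/
theorem comm_nodes [Finite W] {i j : I} (hij : i ≠ j) (h2 : M i j = 2) {x y : L} (hx : x ∈ X (sr i))
    (hy : y ∈ X (sr j) ⊔ X (-sr j)) : Commute x y := by
  have hne : sr i ≠ (sr j : I → ℤ) := by
    intro h1
    have h3 := congrFun h1 i
    rw [sr_self, sr_ne hij] at h3
    exact one_ne_zero h3
  have hne' : sr i ≠ (-sr j : I → ℤ) := by
    intro h1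
    have h3 := congrFun h1 i
    rw [sr_self, Pi.neg_apply, sr_ne hij, neg_zero] at h3
    exact one_ne_zero h3
  have key : ∀ c : ℤ, (c = 1 ∨ c = -1) → ∀ z, ¬ Btwn cs hA (sr i) (c • sr j) z := by
    rintro c hc z ⟨hz, m, a, b, hm, ha, hb, he⟩
    have h3 : ∀ k, m * z k = a * sr i k + b * (c * sr j k) := fun k => by
      have := congrFun he k
      simpa using this
    have h4 : Nodes.Comb.Supp i j z := by
      intro k hki hkj
      have h5 := h3 k
      rw [sr_ne hki, sr_ne hkj, mul_zero, mul_zero, mul_zero, add_zero] at h5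
      rcases mul_eq_zero.1 h5 with h6 | h6
      · omega
      · exact h6
    obtain ⟨k, hk, h5⟩ := Nodes.ClsPair.eq_of_supp_two hij h2 hz h4
    have h6 := h3 i
    have h7 := h3 j
    rw [sr_self, sr_ne hij, mul_zero, mul_zero, add_zero, mul_one] at h6
    rw [sr_self, sr_ne hij.symm, mul_zero, zero_add, mul_one] at h7
    have h8 : z i ≠ 0 := by
      intro h9
      rw [h9, mul_zero] at h6
      omega
    have h9 : z j ≠ 0 := by
      intro h9
      rw [h9, mul_zero] at h7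
      rcases hc with rfl | rfl <;> omega
    rcases hk with rfl | rfl <;> rcases h5 with h5 | h5
    · exact h9 (by rw [h5, sr_ne hij.symm])
    · exact h9 (by rw [h5, Pi.neg_apply, sr_ne hij.symm, neg_zero])
    · exact h8 (by rw [h5, sr_ne hij])
    · exact h8 (by rw [h5, Pi.neg_apply, sr_ne hij, neg_zero])
  have k1 := key 1 (Or.inl rfl)
  have k2 := key (-1) (Or.inr rfl)
  rw [one_smul] at k1
  rw [neg_smul, one_smul] at k2
  have h3 : X (sr j) ⊔ X (-sr j) ≤ centralizer ({x} : Set L) := by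
    refine sup_le (fun w hw => ?_) (fun w hw => ?_)
    · rw [mem_centralizer_singleton_iff]
      exact (KFacts.RgdSL.comm_of_not_btwn R (isRoot_sr cs hA i) (isRoot_sr cs hA j) hne hne' k1 hx hw).symm
    · rw [mem_centralizer_singleton_iff]
      exact (KFacts.RgdSL.comm_of_not_btwn R (isRoot_sr cs hA i) (isRoot_sr cs hA j).neg hne'
        (by rwa [neg_neg]) k2 hx hw).symm
  exact (mem_centralizer_singleton_iff.1 (h3 hy)).symm

end Gen

/-- an automorphism acting on a rank one group through an automorphism of the field -/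
theorem aut_Phi {L : Type*} [Group L] {F : Type*} [Field F] {Φ : SL2 F →* L} {α : MulAut L} {τ : F ≃+* F}
    (h1 : ∀ a, α (Φ (up a)) = Φ (up (τ a))) (h2 : α (Φ (wS 1)) = Φ (wS 1)) (g : SL2 F) :
    α (Φ g) = Φ (Matrix.SpecialLinearGroup.map (τ : F →+* F) g) := by
  have h3 : Set.EqOn ((α : L →* L).comp Φ) (Φ.comp (Matrix.SpecialLinearGroup.map (τ : F →+* F)))
      (Set.range (up (F := F)) ∪ Set.range (lo (F := F))) := by
    rintro _ (⟨t, rfl⟩ | ⟨t, rfl⟩)
    · show α (Φ (up t)) = Φ (Matrix.SpecialLinearGroup.map (τ : F →+* F) (up t))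
      rw [GH.LowRankD4.map_up, h1]
      rfl
    · show α (Φ (lo t)) = Φ (Matrix.SpecialLinearGroup.map (τ : F →+* F) (lo t))
      have e : ∀ t : F, lo t = wS 1 * up (-t) * (wS 1)⁻¹ := by
        intro t
        rw [wS_eq, wy_up, neg_neg, mul_inv_cancel_right]
      rw [GH.LowRankD4.map_lo, e t, e, map_mul, map_mul, map_mul, map_mul, map_inv, map_inv, h2, h1, map_mul,
        map_mul, map_inv, map_neg]
      rfl
  exact MonoidHom.eqOn_closure h3 (mem_closure_SL2 g)

theorem dgH_eq {F : Type*} [Field F] (t : Fˣ) : dgH t = hS (t : F) := by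
  apply Subtype.ext
  rw [coe_hS t.ne_zero, ← Units.val_inv_eq_inv_val]
  rfl

section E6

open Cfsg.Agent.Nodes.RGDTwE6 Cfsg.Agent.Nodes.RGDTwNode.E6
open Cfsg.Agent.KFacts.TwESix.Out Cfsg.Agent.KFacts.TwESix.OutTwo Cfsg.Agent.CpAut.RgdTwE6
open Cfsg.Agent.KFacts.RgdNodes

variable {K : Type u} [Field K] [Fintype K] {q : ℕ} (hq : IsPrimePow q) (hK : Fintype.card K = q ^ 2)

theorem tRow {r : ℕ} [CharP K r] (hq : IsPrimePow q) (hK : Fintype.card K = q ^ 2) :
    TRow r ↥(twistedE6 K q) := by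
  have : Fact r.Prime := ⟨(CharP.char_is_prime_or_zero K r).resolve_right (CharP.char_ne_zero_of_finite K r)⟩
  have := finite_F4
  obtain ⟨φ, hφ, hqq⟩ := TwE6Basic.exists_frob hq hK
  have R := Cfsg.Agent.Nodes.RGDTwE6.rgd CoxeterMatrix.F₄.toCoxeterSystem hφ hqq r
  refine tRow_of_row (H967.CopTw.row_2e6 hq hK (Cfsg.Agent.Schreier.TwESix.sch hq hK)) fun σ hp hn => ?_
  have h : fieldAut (H967.CopTw.row_2e6 hq hK (Cfsg.Agent.Schreier.TwESix.sch hq hK)).stab σ = st q σ := rfl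
  rw [h]
  have hσ : σ ≠ 1 := by
    rintro rfl
    rw [orderOf_one] at hp
    exact Nat.not_prime_one hp
  have N : ∀ i, Rk (T K q) (X φ q (sr i)) (X φ q (-sr i)) (PhiE hφ hqq i) := fun i =>
    rk_of R (mem_X hφ hqq i) (PhiE_wS hφ hqq i) (coordE hφ hqq i)
  have key : ∀ g, st q σ (PhiE hφ hqq 3 g) = PhiE hφ hqq 3 (Matrix.SpecialLinearGroup.map
      ((rs hφ σ 3 : KF φ 3 ≃+* KF φ 3) : KF φ 3 →+* KF φ 3) g) := by
    refine aut_Phi (st_up hφ hqq σ 3) ?_
    rw [PhiE_wS, st_n]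
  refine crit (F := KF φ 3) (σ := rs hφ σ 3) ?_ ((PhiE hφ hqq 3).comp dgH) ?_ ?_ (u := PhiE hφ hqq 0 (up 1)) ?_ ?_
  · intro h1
    apply hσ
    apply RingEquiv.ext
    intro a
    have ha : a ∈ KF φ 3 := by
      show a ∈ Fx φ 2
      rw [F2_eq_top hφ hqq]
      exact Subfield.mem_top a
    exact congrArg Subtype.val (congrArg (fun e : KF φ 3 ≃+* KF φ 3 => e ⟨a, ha⟩) h1)
  · rw [injective_iff_map_eq_one]
    intro t ht
    have h1 : PhiE hφ hqq 3 (hS (t : KF φ 3)) = 1 := by rw [← dgH_eq]; exact ht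
    have h2 := ch32 hφ hqq (t : KF φ 3) t.ne_zero
    rw [h1] at h2
    have h3 := (coordE hφ hqq 2).act 1 (one_mem _) 1
    rw [one_mul, inv_one, mul_one, mul_one] at h3
    have h4 := (coordE hφ hqq 2).inj h3
    rw [← h4] at h2
    have h5 : (((t : KF φ 3) : K))⁻¹ = 1 := h2.symm
    exact Units.ext (Subtype.ext (inv_eq_one.1 h5))
  · intro t
    show st q σ (PhiE hφ hqq 3 (dgH t)) = PhiE hφ hqq 3 (dgH _)
    rw [key, map_dgH]
  · intro t
    refine (comm_nodes R (i := 0) (j := 3) (by decide) (by decide) ?_ ?_).symm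
    · exact (mem_X hφ hqq 0 _).2 ⟨1, rfl⟩
    · rw [← (N 3).range]
      exact ⟨_, rfl⟩
  · refine orderOf_eq_prime ?_ ?_
    · rw [← map_pow, up_pow, CharP.cast_eq_zero, zero_mul, up_zero, map_one]
    · intro h1
      have h2 : PhiE hφ hqq 0 (up 1) = PhiE hφ hqq 0 (up 0) := by
        rw [h1, up_zero, map_one]
      exact one_ne_zero ((N 0).inj h2)

end E6

end Cfsg.Agent.H680.TRowE6
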