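import Cfsg.Agent.H680.TRowD4
import Cfsg.Agent.H680.TRowE6
import Cfsg.Prelude.Def_LieTypeChar

/-!
# `TRow r K` for `K ≅ ²E₆(q)`, `³D₄(q)` (helper680, task 168, for S4952, S4938, S4939, S4128, S4129)
-/

set_option autoImplicit false

namespace Cfsg.Agent.H680.TRowTw

theorem tRow_tw {r : ℕ} {K : Type*} [Group K] [Finite K] [IsSimpleGroup K] (h : Cfsg.IsTwistedE6D4Char r K) :
    Cfsg.Agent.H716.CopRow.TRow r K := by
  obtain ⟨F, _, _, _, q, hq, (⟨hF, ⟨e⟩⟩ | ⟨hF, ⟨e⟩⟩)⟩ := h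
  · exact (TRowE6.tRow hq hF).congr e.symm
  · exact (TRowD4.tRow hq hF).congr e.symm

end Cfsg.Agent.H680.TRowTw
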