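import Cfsg.Agent.H524.LinReg
import Cfsg.Agent.H524.SporSC
import Cfsg.Agent.H182.CentSp
import Cfsg.Agent.H732.SelfCent
import Cfsg.Agent.H587.NRow.Classical
import Cfsg.Agent.H423.PGNum
import Cfsg.Agent.S0242
import Cfsg.Agent.S0245
import Cfsg.Agent.S0246
import Cfsg.Prelude.Def_LieTypeChar

/-!
# S4129, the symplectic groups (task 2349; helper680)
-/

set_option autoImplicit false
set_option linter.unusedSectionVars false

namespace Cfsg.Agent.H680.RegSp

open Module Subgroup Cfsg.Agent.H524.DirRed Cfsg.Agent.H524.RegTool Cfsg.Agent.H524.SporTool Cfsg.Agent.H524.LinReg Cfsg.Agent.H182.Cent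
open Cfsg.Agent.H531.RMPsp Cfsg.Agent.KFacts.MulOdd.TypeA
open scoped Matrix

section

variable {F : Type*} [Field F] [Fintype F] {m : ℕ}

theorem finrank_V : finrank F (Fin m ⊕ Fin m → F) = 2 * m := by
  rw [Module.finrank_fintype_fun_eq_card]
  simp only [Fintype.card_sum, Fintype.card_fin]
  omega

/-- the fixed space of an element of `SL₂(F)` acting on one hyperbolic pair -/
theorem le_fx_emb (i₀ : Fin m) (g : Matrix.SpecialLinearGroup (Fin 2) F) :
    2 * m ≤ finrank F (fx (rhoSp m F) (emb i₀ g)) + 2 := by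
  let f : (Fin m ⊕ Fin m → F) →ₗ[F] (Fin 2 → F) :=
    LinearMap.pi ![LinearMap.proj (Sum.inl i₀), LinearMap.proj (Sum.inr i₀)]
  have h1 : LinearMap.ker f ≤ fx (rhoSp m F) (emb i₀ g) := by
    intro v hv
    have hv' : f v = 0 := hv
    have ha : v (Sum.inl i₀) = 0 := congrFun hv' 0
    have hb : v (Sum.inr i₀) = 0 := congrFun hv' 1
    rw [mem_fx, rhoSp_apply]
    have hab : (Sum.inl i₀ : Fin m ⊕ Fin m) ≠ Sum.inr i₀ := Sum.inl_ne_inr
    show NN (Sum.inl i₀) (Sum.inr i₀) g.1 *ᵥ v = v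
    funext i
    by_cases hi : i = Sum.inl i₀
    · subst hi
      rw [NN_mulVec_fst hab, ha, hb, mul_zero, mul_zero, add_zero]
    · by_cases hi' : i = Sum.inr i₀
      · subst hi'
        rw [NN_mulVec_snd hab, ha, hb, mul_zero, mul_zero, add_zero]
      · rw [NN_mulVec_other _ _ hi hi']
  have h2 := LinearMap.finrank_range_add_finrank_ker f
  have h3 : finrank F (LinearMap.range f) ≤ 2 := by
    have := Submodule.finrank_le (LinearMap.range f)
    rwa [Module.finrank_fin_fun] at this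
  have h4 := Submodule.finrank_mono h1
  rw [finrank_V] at h2
  omega

theorem fx_lt {y : Matrix.symplecticGroup (Fin m) F} (hy : y ≠ 1) : finrank F (fx (rhoSp m F) y) < 2 * m := by
  rw [← finrank_V (F := F) (m := m)]
  refine lt_of_le_of_ne (Submodule.finrank_le _) fun h => hy ?_
  have h2 : fx (rhoSp m F) y = ⊤ := Submodule.eq_top_of_finrank_eq h
  apply rhoSp_injective
  rw [map_one]
  apply LinearMap.ext
  intro v
  have : v ∈ fx (rhoSp m F) y := by rw [h2]; trivial
  exact (mem_fx _).1 this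

theorem card_SL2 : Nat.card (Matrix.SpecialLinearGroup (Fin 2) F) =
    Fintype.card F * (Fintype.card F ^ 2 - 1) := by
  have h1 := S0242.result (F := F) rfl 2 (by norm_num)
  have hq : 2 ≤ Fintype.card F := Fintype.one_lt_card
  rw [Fin.prod_univ_two] at h1
  have h3 : Fintype.card F ^ 2 - Fintype.card F ^ 1 = (Fintype.card F - 1) * Fintype.card F := by
    rw [Nat.sub_mul, one_mul, pow_one, pow_two]
  simp only [Fin.val_zero, Fin.val_one, pow_zero] at h1
  rw [h3] at h1
  have h4 : (Fintype.card F - 1) * Nat.card (Matrix.SpecialLinearGroup (Fin 2) F) =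
      (Fintype.card F - 1) * (Fintype.card F * (Fintype.card F ^ 2 - 1)) := by rw [h1]; ring
  exact Nat.eq_of_mul_eq_mul_left (by omega) h4

/-- an element of prime order `t ∣ q² - 1` with a large fixed space -/
theorem exists_elt (i₀ : Fin m) {t : ℕ} (ht : t.Prime) (hd : t ∣ Fintype.card F ^ 2 - 1) :
    ∃ y : Matrix.symplecticGroup (Fin m) F, orderOf y = t ∧ 2 * m ≤ finrank F (fx (rhoSp m F) y) + 2 ∧
      finrank F (fx (rhoSp m F) y) < 2 * m := by
  have : Fact t.Prime := ⟨ht⟩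
  obtain ⟨g, hg⟩ := exists_prime_orderOf_dvd_card' (G := Matrix.SpecialLinearGroup (Fin 2) F) t
    (by rw [card_SL2]; exact hd.mul_left _)
  have ho : orderOf (emb i₀ g) = t := by
    rw [orderOf_injective _ (Cfsg.Agent.H587.NRow.emb_injective i₀), hg]
  refine ⟨emb i₀ g, ho, le_fx_emb i₀ g, fx_lt ?_⟩
  intro h
  rw [h, orderOf_one] at ho
  exact ht.one_lt.ne ho

variable {l : ℕ} [CharP F l]

theorem main (hm : 2 ≤ m) (h6 : ¬ (Fintype.card F = 2 ∧ m = 3)) {q : ℕ} (hq : q.Prime) (hql : q ≠ l)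
    (hd : q ∣ Nat.card (Cfsg.PSp m F)) : RegB (Cfsg.PSp m F) l q := by
  have hl : l.Prime := CharP.char_is_prime F l
  have hlF : Fact l.Prime := ⟨hl⟩
  obtain ⟨k, -, hk⟩ := FiniteField.card F l
  set Q := Fintype.card F with hQ
  have hQ2 : 2 ≤ Q := Fintype.one_lt_card
  have hNQ : Nat.card F = Q := Nat.card_eq_fintype_card
  have hlQ : l ∣ Q := by rw [hk]; exact dvd_pow_self l k.ne_zero
  have hord0 : ∀ r : ℕ, r.Prime → r ∣ Q → orderOf ((Q : ℕ) : ZMod r) = 0 := by
    intro r hr hrQ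
    have := Fact.mk hr
    rw [(ZMod.natCast_eq_zero_iff Q r).2 hrQ, orderOf_eq_zero_iff']
    intro n hn
    rw [zero_pow hn.ne']
    exact zero_ne_one
  have hker : Nat.card ((QuotientGroup.mk' (center (Matrix.symplecticGroup (Fin m) F))).ker) ∣ 2 := by
    rw [QuotientGroup.ker_mk', S0246.result rfl m (by omega)]
    exact Nat.gcd_dvd_left _ _
  -- the Zsigmondy prime
  obtain ⟨r, hr, hrX, hre⟩ : ∃ r : ℕ, r.Prime ∧ r ∣ Nat.card (Matrix.symplecticGroup (Fin m) F) ∧
      orderOf ((Q : ℕ) : ZMod r) = 2 * m := by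
    refine Cfsg.Agent.H423.PGNum.zsig (a := Q) (n := 2 * m) (g := 1) (M := Nat.card (Matrix.symplecticGroup (Fin m) F))
      hQ2 (by omega) (fun h => h6 ⟨h.1, by omega⟩) ?_ (one_mul _) (one_dvd _)
    rw [S0245.result rfl m]
    refine Dvd.dvd.mul_left ?_ _
    have := Finset.dvd_prod_of_mem (fun i => Q ^ (2 * (i + 1)) - 1) (Finset.mem_range.2 (show m - 1 < m by omega))
    simpa only [show m - 1 + 1 = m by omega] using this
  have hrl : r ≠ l := by
    rintro rfl
    rw [hord0 r hr hlQ] at hre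
    omega
  have hr2 : r ≠ 2 := by
    rintro rfl
    rcases Nat.even_or_odd Q with h | h
    · rw [hord0 2 Nat.prime_two h.two_dvd] at hre
      omega
    · have h1 : ((Q : ℕ) : ZMod 2) = 1 := by
        rw [← Nat.cast_one, ZMod.natCast_eq_natCast_iff]
        exact Nat.odd_iff.1 h
      rw [h1, orderOf_one] at hre
      omega
  have hrk : ¬ r ∣ Nat.card ((QuotientGroup.mk' (center (Matrix.symplecticGroup (Fin m) F))).ker) := fun h =>
    hr2 ((Nat.prime_dvd_prime_iff_eq hr Nat.prime_two).1 (h.trans hker))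
  have hπ : Function.Surjective (QuotientGroup.mk' (center (Matrix.symplecticGroup (Fin m) F))) :=
    QuotientGroup.mk'_surjective _
  have hcen : ∀ z, QuotientGroup.mk' (center (Matrix.symplecticGroup (Fin m) F)) z = 1 → ∀ x, z * x = x * z := by
    intro z hz x
    have h1 : z ∈ center (Matrix.symplecticGroup (Fin m) F) := (QuotientGroup.eq_one_iff z).1 hz
    exact (mem_center_iff.1 h1 x).symm
  have hfin : Finite (Matrix.symplecticGroup (Fin m) F) := inferInstance
  have hfin2 : Finite (Cfsg.PSp m F) := Cfsg.Agent.H732.SelfCent.finite_psp m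
  let i₀ : Fin m := ⟨0, by omega⟩
  by_cases hS : q ∣ Q ^ 2 - 1
  · obtain ⟨y, hy, h1, h2⟩ := exists_elt (F := F) i₀ hq hS
    refine regB_of_mid (ρ := rhoSp m F) (k := 1) hπ hcen rhoSp_injective hl hq hr hrl hrX hrk (by rw [hNQ]; exact hre)
      (by omega) (y := y) (by rw [hy, pow_one]) ?_ h2
    rw [finrank_V]
    omega
  · have hq2 : q ≠ 2 := by
      rintro rfl
      apply hS
      have hodd : Odd Q := by
        rw [← Nat.not_even_iff_odd]
        intro he
        apply hql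
        have h1 : 2 ∣ l ^ (k : ℕ) := hk ▸ he.two_dvd
        exact (Nat.prime_dvd_prime_iff_eq Nat.prime_two hl).1 (Nat.prime_two.dvd_of_dvd_pow h1)
      have : Even (Q ^ 2 - 1) := Nat.Odd.sub_odd (hodd.pow (n := 2)) odd_one
      exact this.two_dvd
    have hqk : ¬ q ∣ Nat.card ((QuotientGroup.mk' (center (Matrix.symplecticGroup (Fin m) F))).ker) := fun h =>
      hq2 ((Nat.prime_dvd_prime_iff_eq hq Nat.prime_two).1 (h.trans hker))
    obtain ⟨t, ht, htd⟩ : ∃ t : ℕ, t.Prime ∧ t ∣ Q ^ 2 - 1 := by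
      apply Nat.exists_prime_and_dvd
      have : 2 ^ 2 ≤ Q ^ 2 := Nat.pow_le_pow_left hQ2 2
      omega
    have htl : t ≠ l := by
      rintro rfl
      have h1 : t ∣ Q ^ 2 := dvd_pow hlQ (by norm_num)
      have h2 : 1 ≤ Q ^ 2 := Nat.one_le_pow _ _ (by omega)
      have h3 := Nat.dvd_sub h1 htd
      rw [Nat.sub_sub_self h2] at h3
      exact ht.one_lt.ne' (Nat.dvd_one.1 h3)
    obtain ⟨s, hs, h1, h2⟩ := exists_elt (F := F) i₀ ht htd
    have hqQ : ¬ q ∣ Q := fun h => hql ((Nat.prime_dvd_prime_iff_eq hq hl).1 (hq.dvd_of_dvd_pow (hk ▸ h)))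
    have hqF : Fact q.Prime := ⟨hq⟩
    have hf0 : orderOf ((Q : ℕ) : ZMod q) ≠ 0 := by
      have hu : IsUnit ((Q : ℕ) : ZMod q) := by
        rw [isUnit_iff_ne_zero]
        exact fun h => hqQ ((ZMod.natCast_eq_zero_iff Q q).1 h)
      obtain ⟨u, hu⟩ := hu
      rw [← hu, orderOf_units]
      exact (orderOf_pos u).ne'
    have hf2 : ¬ orderOf ((Q : ℕ) : ZMod q) ∣ 2 := by
      intro h
      apply hS
      have h3 : ((Q : ℕ) : ZMod q) ^ 2 = 1 := orderOf_dvd_iff_pow_eq_one.1 h
      rw [← ZMod.natCast_eq_zero_iff, Nat.cast_sub (Nat.one_le_pow _ _ (by omega)), Nat.cast_pow, h3, Nat.cast_one, sub_self]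
    have hf3 : 3 ≤ orderOf ((Q : ℕ) : ZMod q) := by
      by_contra hlt
      push Not at hlt
      apply hf2
      interval_cases (orderOf ((Q : ℕ) : ZMod q))
      · exact absurd rfl hf0
      · norm_num
      · norm_num
    refine regB_of_small (ρ := rhoSp m F) hπ hcen rhoSp_injective hl hq hr hrl hrX hrk (by rw [hNQ]; exact hre)
      (by omega) hd hqk (f := orderOf ((Q : ℕ) : ZMod q)) (by rw [hNQ]) (s := s) ?_ ?_ h2
    · rw [hs]
      exact fun h => htl ((Nat.prime_dvd_prime_iff_eq hl ht).1 h).symm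
    · rw [finrank_V]
      omega

omit [CharP F l] in
/-- `PSp₆(2)` -/
theorem sc_six_two (h2 : Fintype.card F = 2) : SC (Cfsg.PSp 3 F) := by
  obtain ⟨R, hR, hc⟩ := Cfsg.Agent.H732.SelfCent.psp_six_two h2
  have h7 : Fact (Nat.Prime 7) := ⟨by norm_num⟩
  have hcyc : IsCyclic R := isCyclic_of_prime_card hR
  obtain ⟨x, hx⟩ := hcyc.exists_generator
  have hx7 : orderOf (x : Cfsg.PSp 3 F) = 7 := by
    rw [orderOf_coe, orderOf_eq_card_of_forall_mem_zpowers hx, hR]
  refine ⟨x, by rw [hx7]; norm_num, ?_⟩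
  have hz : zpowers (x : Cfsg.PSp 3 F) = R := by
    apply le_antisymm
    · rw [zpowers_le]
      exact x.2
    · intro y hy
      obtain ⟨i, hi⟩ := hx ⟨y, hy⟩
      exact ⟨i, congrArg Subtype.val hi⟩
  have hcx : centralizer ({(x : Cfsg.PSp 3 F)} : Set (Cfsg.PSp 3 F)) = R := by
    have h1 : centralizer ((zpowers (x : Cfsg.PSp 3 F) : Subgroup (Cfsg.PSp 3 F)) : Set (Cfsg.PSp 3 F)) =
        centralizer ({(x : Cfsg.PSp 3 F)} : Set (Cfsg.PSp 3 F)) := by
      rw [zpowers_eq_closure, centralizer_closure]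
    rw [← h1, hz, hc]
  rw [hcx, hR, hx7]

end

universe u

/-- **The symplectic groups** (task 2349) -/
theorem regB_psp {S : Type u} [Group S] [Finite S] [IsSimpleGroup S] {l : ℕ} (h : Cfsg.IsPSpChar l S) {q : ℕ}
    (hq : q.Prime) (hql : q ≠ l) (hd : q ∣ Nat.card S) : RegB S l q := by
  obtain ⟨F, _, _, _, m, hm, h3, ⟨e⟩⟩ := h
  by_cases h6 : Fintype.card F = 2 ∧ m = 3
  · obtain ⟨h2, rfl⟩ := h6
    have hl : l.Prime := CharP.char_is_prime F l
    obtain ⟨T, hT⟩ := ((sc_six_two (F := F) h2).congr e.symm).exists_cc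
    refine hT.regB ?_ hl hq hd
    intro hcomm
    have h1 : (⊤ : Subgroup (Cfsg.PSp 3 F)) = ⊤ := rfl
    obtain ⟨R, hR, hc⟩ := Cfsg.Agent.H732.SelfCent.psp_six_two (F := F) h2
    have h4 : R = ⊤ := by
      rw [← hc, eq_top_iff]
      intro x _
      rw [mem_centralizer_iff]
      intro y _
      have := hcomm (e.symm y) (e.symm x)
      rw [← map_mul, ← map_mul] at this
      exact e.symm.injective this
    have h5 : Nat.card (Cfsg.PSp 3 F) = 7 := by rw [← hR, h4, card_top]
    have h6 := Cfsg.Agent.H732.SelfCent.card_psp h2 (n := 3) (by norm_num)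
    rw [h5] at h6
    simp only [Finset.prod_range_succ, Finset.prod_range_zero] at h6
    norm_num at h6
  · refine RegB.congr e.symm (main hm h6 hq hql ?_)
    rwa [← Nat.card_congr e.toEquiv]

end Cfsg.Agent.H680.RegSp
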