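import Cfsg.Agent.H580.RankOne
import Cfsg.Agent.Mrg.Omega.ML.LieRow.Lie
import Cfsg.Agent.FixBN.ReeSplit
import Cfsg.Agent.Lib.NilpotentCoprime
import Cfsg.Agent.Lib.Zsigmondy
import Cfsg.Agent.S1157
import Cfsg.Agent.S1069
import Cfsg.Agent.S1073
import Cfsg.Agent.S1163

/-!
# Suzuki and Ree groups have three classes of non-nilpotent maximal invariant subgroups (helper680, for S4382)
-/

set_option autoImplicit false
open scoped Pointwise

namespace Cfsg.Agent.H680.TwoClSzRee

open Cfsg Cfsg.Agent.FixBN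
open Cfsg.Agent.H580 Cfsg.Agent.H580.Two Cfsg.Agent.H580.MaxInv

universe u v

theorem not_nilp {G : Type*} [Group G] {B : Subgroup G} {a b : G} (ha : a ∈ B) (hb : b ∈ B) {m n : ℕ}
    (hmn : m.Coprime n) (ha' : a ^ m = 1) (hb' : b ^ n = 1) (hne : a * b ≠ b * a) : ¬ Group.IsNilpotent B := by
  intro h
  have h1 := Cfsg.Agent.Lib.NilpotentCoprime.commute_of_pow_eq_one (N := B) hmn (a := ⟨a, ha⟩) (b := ⟨b, hb⟩)
    (Subtype.ext (by simpa using ha')) (Subtype.ext (by simpa using hb'))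
  exact hne (congrArg Subtype.val h1.eq)

theorem not_solvable {G : Type*} [Group G] [IsSimpleGroup G] {B : Subgroup G} (hB : ¬ Group.IsNilpotent B) :
    ¬ Group.IsSolvable G := by
  intro h
  have h1 := IsSimpleGroup.comm_iff_isSolvable.mpr h
  apply hB
  let _ : CommGroup B := { (inferInstance : Group B) with mul_comm := fun a b => Subtype.ext (h1 a b) }
  infer_instance

section
variable {A : Type v} {G : Type u} [Group A] [Finite A] [Group G] [Finite G] [MulDistribMulAction A G]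

theorem false_suzuki (hcop : (Nat.card A).Coprime (Nat.card G)) (hsol : Group.IsSolvable A)
    (hcl : Cfsg.Agent.H580.Two.TwoCl A G) (h : Cfsg.Lie.IsoSuzuki G) : False := by
  obtain ⟨K, i1, i2, m, hm, hK, ⟨e⟩⟩ := h
  have H := LieRecognition.SzMatrix.good hK
  have hs : IsSimpleGroup ↥(Cfsg.Lie.Sz K (2 ^ (m + 1))) := Cfsg.Agent.S1162.result hm hK
  have hnt : Nontrivial G := e.toEquiv.nontrivial
  have hsG : IsSimpleGroup G := IsSimpleGroup.isSimpleGroup_of_surjective e.symm.toMonoidHom e.symm.surjective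
  have h1 := Omega.ML.LieRow.SzSplit.split hm hK H hs
  have hsplit := Transport.split e.symm _ h1
  have : Fact (Nat.Prime 2) := ⟨Nat.prime_two⟩
  have hcardU : Nat.card H.unip = 2 ^ (2 * (2 * m + 1)) := by
    rw [H.card_unip, Nat.card_eq_fintype_card, hK, ← pow_mul, mul_comm]
  have hq1 : 2 ^ (2 * m + 1) - 1 ≠ 0 := by
    have : 2 ^ 1 ≤ 2 ^ (2 * m + 1) := Nat.pow_le_pow_right (by norm_num) (by omega)
    omega
  -- the Borel subgroup is not nilpotent
  have hBn₁ : ¬ Group.IsNilpotent (Omega.ML.LieRow.SzSplit.bnPair H).B := by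
    have hnt : Nontrivial Kˣ := by
      rw [← Finite.one_lt_card_iff_nontrivial, Nat.card_units, Nat.card_eq_fintype_card, hK]
      have : 2 ^ 3 ≤ 2 ^ (2 * m + 1) := Nat.pow_le_pow_right (by norm_num) (by omega)
      omega
    obtain ⟨k, hk⟩ := exists_ne (1 : Kˣ)
    refine not_nilp (a := H.d k) (b := H.u 0 1) (m := 2 ^ (2 * m + 1) - 1) (n := 2 ^ (2 * (2 * m + 1)))
      (H.d_mem_borel k) (H.u_mem_borel 0 1) ?_ ?_ ?_ ?_
    · apply Nat.Coprime.pow_right
      rw [Nat.coprime_comm, Nat.Prime.coprime_iff_not_dvd Nat.prime_two]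
      have : 2 ∣ 2 ^ (2 * m + 1) := dvd_pow_self 2 (by omega)
      omega
    · have h3 : ∀ n : ℕ, H.d k ^ n = H.d (k ^ n) := by
        intro n
        induction n with
        | zero => rw [pow_zero, pow_zero, H.d_one]
        | succ n ih => rw [pow_succ (H.d k) n, ih, pow_succ k n, H.d_mul]
      rw [h3]
      have h4 : k ^ (2 ^ (2 * m + 1) - 1) = 1 := by
        have h5 : Nat.card Kˣ = 2 ^ (2 * m + 1) - 1 := by
          rw [Nat.card_units, Nat.card_eq_fintype_card, hK]
        rw [← h5]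
        exact pow_card_eq_one'
      rw [h4, H.d_one]
    · rw [← hcardU]
      have h6 : (⟨H.u 0 1, H.u_mem_unip 0 1⟩ : H.unip) ^ Nat.card H.unip = 1 := pow_card_eq_one'
      exact congrArg Subtype.val h6
    · intro h7
      rw [H.d_mul_u] at h7
      have h8 := (H.u_inj (mul_right_cancel h7)).2
      rw [one_mul] at h8
      apply hk
      apply Units.ext
      rw [Units.val_one]
      apply (LieRecognition.SzMatrix.theta hK).injective
      rw [h8, map_one]
  have hBn : ¬ Group.IsNilpotent (Transport.mapBN e.symm (Omega.ML.LieRow.SzSplit.bnPair H)).B := by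
    intro h3
    apply hBn₁
    exact nilp_congr ((Omega.ML.LieRow.SzSplit.bnPair H).B.equivMapOfInjective e.symm.toMonoidHom e.symm.injective) h3
  refine RankOne.false_rank_one (p := 2) hcop hsol (not_solvable hBn) hcl hsplit (s₀ := e.symm H.w) ?_
    (f := 2 * (2 * m + 1)) ?_ hBn (fun h => absurd rfl h) ?_
  · change e.symm '' {H.w} = _
    rw [Set.image_singleton]
  · rw [Subgroup.card_map_of_injective e.symm.injective, hcardU]
  · intro j hj hr
    obtain ⟨r, hrp, hdiv, -, hra⟩ := Cfsg.Agent.Lib.Zsigmondy.exists_primitive (a := 2) (n := 4 * (2 * m + 1))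
      (by norm_num) (by omega) (by omega) (by omega)
    have hr2 : r ≠ 2 := fun h => hra (h ▸ dvd_rfl)
    have hrG : r ∣ Nat.card G := by
      rw [Nat.card_congr e.toEquiv, (Cfsg.Agent.S1163.result hm hK).1]
      apply Dvd.dvd.mul_left
      have h3 : r ∣ 2 ^ (4 * (2 * m + 1)) - 1 := (hdiv _).2 dvd_rfl
      have h4 : 2 ^ (4 * (2 * m + 1)) - 1 = ((2 ^ (2 * m + 1)) ^ 2 + 1) * (2 ^ (2 * (2 * m + 1)) - 1) := by
        have h5 : 2 ^ (4 * (2 * m + 1)) = (2 ^ (2 * (2 * m + 1))) ^ 2 := by rw [← pow_mul]; congr 1; ring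
        have h6 : (2 ^ (2 * m + 1)) ^ 2 = 2 ^ (2 * (2 * m + 1)) := by rw [← pow_mul]; congr 1; ring
        rw [h5, h6]
        exact Nat.sq_sub_sq _ 1 ▸ rfl
      rw [h4] at h3
      rcases hrp.dvd_mul.1 h3 with h5 | h5
      · exact h5
      · exfalso
        have h6 := (hdiv _).1 h5
        have h7 := Nat.le_of_dvd (by omega) h6
        omega
    have h3 := hr r hrp hr2 hr2 hrG
    have h4 : r ∣ 2 ^ j - 1 := (Nat.modEq_iff_dvd' Nat.one_le_two_pow).1 h3.symm
    have h5 := (hdiv j).1 h4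
    by_contra hj0
    have h7 := Nat.le_of_dvd (by omega) h5
    omega

omit [Finite A] in
/-- the class of the normalizer of a Sylow subgroup is invariant -/
theorem stable_normalizer {p : ℕ} [Fact p.Prime] (S : Sylow p G) :
    StableClass A (Subgroup.normalizer ((S : Subgroup G) : Set G)) := by
  intro a
  obtain ⟨g, hg⟩ := MulAction.exists_smul_eq G S (a • S)
  have h1 : (a • (S : Subgroup G) : Subgroup G) = MulAut.conj g • (S : Subgroup G) := by
    have := congrArg (fun T : Sylow p G => (T : Subgroup G)) hg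
    exact this.symm
  refine ⟨g, fun x hx => ?_⟩
  rw [Subgroup.mem_pointwise_smul_iff_inv_smul_mem, Subgroup.mem_normalizer_iff]
  intro y
  rw [Subgroup.mem_normalizer_iff] at hx
  -- `y ∈ S ↔ g y g⁻¹ ∈ a • S ↔ a⁻¹ • (g y g⁻¹) ∈ S`
  have key : ∀ z : G, z ∈ (S : Subgroup G) ↔ a⁻¹ • (g * z * g⁻¹) ∈ (S : Subgroup G) := by
    intro z
    rw [← Subgroup.mem_pointwise_smul_iff_inv_smul_mem, h1, Subgroup.mem_pointwise_smul_iff_inv_smul_mem]
    have : (MulAut.conj g)⁻¹ • (g * z * g⁻¹) = z := by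
      rw [← map_inv, MulAut.smul_def, MulAut.conj_apply]
      group
    rw [this]
  have e1 : (MulAut.conj g)⁻¹ • (a • x) = g⁻¹ * (a • x) * g := by
    rw [← map_inv, MulAut.smul_def, MulAut.conj_apply, inv_inv]
  have e2 : g * (g⁻¹ * (a • x) * g * y * (g⁻¹ * (a • x) * g)⁻¹) * g⁻¹ = (a • x) * (g * y * g⁻¹) * (a • x)⁻¹ := by
    group
  have e3 := hx (a⁻¹ • (g * y * g⁻¹))
  have e4 := key (g⁻¹ * (a • x) * g * y * (g⁻¹ * (a • x) * g)⁻¹)
  rw [e2, smul_mul', smul_mul', smul_inv', inv_smul_smul] at e4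
  rw [e1]
  exact (key y).trans (e3.trans e4.symm)

theorem false_ree (hcop : (Nat.card A).Coprime (Nat.card G)) (hsol : Group.IsSolvable A)
    (hcl : Cfsg.Agent.H580.Two.TwoCl A G) (h : Cfsg.Lie.IsoRee G) : False := by
  obtain ⟨K, i1, i2, m, hm, hK, ⟨e⟩⟩ := h
  obtain ⟨U, h, n, D⟩ := Cfsg.Agent.ChevalleyStructure.Ree.Data.exists_data hK
  have hs : IsSimpleGroup ↥(Cfsg.Lie.twistedG2 K (3 ^ m)) := (Cfsg.Agent.S1073.result hm hK).1
  have hfin : Finite ↥(Cfsg.Lie.twistedG2 K (3 ^ m)) := Finite.of_equiv G e.toEquiv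
  have hnt : Nontrivial G := e.toEquiv.nontrivial
  have hsG : IsSimpleGroup G := IsSimpleGroup.isSimpleGroup_of_surjective e.symm.toMonoidHom e.symm.surjective
  have h1 := ReeSplit.split hK D
  have hsplit := Transport.split e.symm _ h1
  have : Fact (Nat.Prime 2) := ⟨Nat.prime_two⟩
  have : Fact (Nat.Prime 3) := ⟨Nat.prime_three⟩
  have hcardU : Nat.card (Cfsg.Agent.LieRecognition.ReeSylowThree.uSub D) = 3 ^ (3 * (2 * m + 1)) := by
    rw [Cfsg.Agent.LieRecognition.ReeSylowThree.card_uSub, hK, ← pow_mul, mul_comm]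
  have hcard : Nat.card G = (3 ^ (2 * m + 1)) ^ 3 * (3 ^ (2 * m + 1) - 1) * ((3 ^ (2 * m + 1)) ^ 3 + 1) := by
    rw [Nat.card_congr e.toEquiv, Cfsg.Agent.S1069.result hK]
  have hq27 : 27 ≤ 3 ^ (2 * m + 1) :=
    calc 27 = 3 ^ 3 := rfl
      _ ≤ 3 ^ (2 * m + 1) := Nat.pow_le_pow_right (by norm_num) (by omega)
  -- the Borel subgroup is not nilpotent
  have hBn₁ : ¬ Group.IsNilpotent (ReeSplit.bnPair D).B := by
    have hnt : Nontrivial Kˣ := by
      rw [← Finite.one_lt_card_iff_nontrivial, Nat.card_units, Nat.card_eq_fintype_card, hK]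
      omega
    obtain ⟨k, hk⟩ := exists_ne (1 : Kˣ)
    have hU : U 1 0 0 ∈ Cfsg.Agent.LieRecognition.ReeSylowThree.uSub D := ⟨1, 0, 0, rfl⟩
    refine not_nilp (a := h k) (b := U 1 0 0) (m := 3 ^ (2 * m + 1) - 1) (n := 3 ^ (3 * (2 * m + 1)))
      (ReeSplit.h_mem_bSub D k) (ReeSplit.uSub_le_bSub D hU) ?_ ?_ ?_ ?_
    · apply Nat.Coprime.pow_right
      rw [Nat.coprime_comm, Nat.Prime.coprime_iff_not_dvd Nat.prime_three]
      have : 3 ∣ 3 ^ (2 * m + 1) := dvd_pow_self 3 (by omega)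
      omega
    · have h3 : ∀ n : ℕ, h k ^ n = h (k ^ n) := by
        intro n
        induction n with
        | zero => rw [pow_zero, pow_zero, D.h_one]
        | succ n ih => rw [pow_succ (h k) n, ih, pow_succ k n, D.h_mul]
      rw [h3]
      have h4 : k ^ (3 ^ (2 * m + 1) - 1) = 1 := by
        have h5 : Nat.card Kˣ = 3 ^ (2 * m + 1) - 1 := by
          rw [Nat.card_units, Nat.card_eq_fintype_card, hK]
        rw [← h5]
        exact pow_card_eq_one'
      rw [h4, D.h_one]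
    · rw [← hcardU]
      have h6 : (⟨U 1 0 0, hU⟩ : Cfsg.Agent.LieRecognition.ReeSylowThree.uSub D) ^
        Nat.card (Cfsg.Agent.LieRecognition.ReeSylowThree.uSub D) = 1 := pow_card_eq_one'
      exact congrArg Subtype.val h6
    · intro h7
      rw [D.h_U] at h7
      obtain ⟨h8, -⟩ := D.inj₁ _ _ _ _ _ _ _ _ h7
      rw [mul_one] at h8
      exact hk (Cfsg.Agent.LieRecognition.ReeAbs.eq_one_of_pow_three hK (m + 1) k
        (Units.ext (by rw [Units.val_pow_eq_pow_val, h8, Units.val_one])))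
  have hBn : ¬ Group.IsNilpotent (Transport.mapBN e.symm (ReeSplit.bnPair D)).B := by
    intro h3
    apply hBn₁
    exact nilp_congr ((ReeSplit.bnPair D).B.equivMapOfInjective e.symm.toMonoidHom e.symm.injective) h3
  refine RankOne.false_rank_one (p := 3) hcop hsol (not_solvable hBn) hcl hsplit (s₀ := e.symm n) ?_
    (f := 3 * (2 * m + 1)) ?_ hBn (fun _ => ?_) ?_
  · change e.symm '' {n} = _
    rw [Set.image_singleton]
  · rw [Subgroup.card_map_of_injective e.symm.injective, hcardU]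
  · -- the normalizer of a Sylow 2-subgroup
    let T : Sylow 2 ↥(Cfsg.Lie.twistedG2 K (3 ^ m)) := default
    obtain ⟨hT1, hT2⟩ := Cfsg.Agent.S1157.result hm hK T
    let S : Sylow 2 G := T.mapSurjective (f := e.symm.toMonoidHom) e.symm.surjective
    have hSn : Subgroup.normalizer ((S : Subgroup G) : Set G) =
        (Subgroup.normalizer ((T : Subgroup ↥(Cfsg.Lie.twistedG2 K (3 ^ m))) : Set ↥(Cfsg.Lie.twistedG2 K (3 ^ m)))).map e.symm.toMonoidHom := by
      exact (Subgroup.map_equiv_normalizer_eq _ e.symm).symm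
    have hcardN : Nat.card (Subgroup.normalizer ((S : Subgroup G) : Set G)) = 168 := by
      rw [hSn, Subgroup.card_map_of_injective e.symm.injective, hT2]
    refine ⟨Subgroup.normalizer ((S : Subgroup G) : Set G), ?_, stable_normalizer S, ?_, ?_⟩
    · intro h3
      rw [h3, Subgroup.card_top, hcard] at hcardN
      have h4 : 27 ∣ 168 := by
        rw [← hcardN]
        apply Dvd.dvd.mul_right
        apply Dvd.dvd.mul_right
        exact (pow_dvd_pow 3 (by omega : 3 ≤ 2 * m + 1)).trans (dvd_pow_self _ (by norm_num))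
      omega
    · intro h3
      have h4 : Group.IsNilpotent
          (Subgroup.normalizer ((T : Subgroup ↥(Cfsg.Lie.twistedG2 K (3 ^ m))) : Set ↥(Cfsg.Lie.twistedG2 K (3 ^ m)))) := by
        refine nilp_congr ((Subgroup.normalizer ((T : Subgroup ↥(Cfsg.Lie.twistedG2 K (3 ^ m))) :
          Set ↥(Cfsg.Lie.twistedG2 K (3 ^ m)))).equivMapOfInjective e.symm.toMonoidHom e.symm.injective) ?_
        rw [← hSn]
        exact h3
      have h7 : Fact (Nat.Prime 7) := ⟨by norm_num⟩
      obtain ⟨c, hc⟩ := exists_prime_orderOf_dvd_card' (G := Subgroup.normalizer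
        ((T : Subgroup ↥(Cfsg.Lie.twistedG2 K (3 ^ m))) : Set ↥(Cfsg.Lie.twistedG2 K (3 ^ m)))) 7 (by rw [hT2]; norm_num)
      obtain ⟨k, hk⟩ := IsPGroup.iff_card.1 T.2
      have hc1 : (c : ↥(Cfsg.Lie.twistedG2 K (3 ^ m))) ∈ Subgroup.centralizer
          ((T : Subgroup ↥(Cfsg.Lie.twistedG2 K (3 ^ m))) : Set _) := by
        rw [Subgroup.mem_centralizer_iff]
        intro t ht
        by_contra hne
        refine not_nilp (B := Subgroup.normalizer ((T : Subgroup ↥(Cfsg.Lie.twistedG2 K (3 ^ m))) : Set ↥(Cfsg.Lie.twistedG2 K (3 ^ m))))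
          (a := t) (b := c) (m := 2 ^ k) (n := 7) (Subgroup.le_normalizer ht) c.2 ?_ ?_ ?_ hne h4
        · exact Nat.Coprime.pow_left _ (by norm_num)
        · rw [← hk]
          have h6 : (⟨t, ht⟩ : (T : Subgroup ↥(Cfsg.Lie.twistedG2 K (3 ^ m)))) ^ Nat.card T = 1 := pow_card_eq_one'
          exact congrArg Subtype.val h6
        · rw [← hc]
          have := pow_orderOf_eq_one c
          exact congrArg Subtype.val this
      rw [hT1] at hc1
      have h8 : (c : ↥(Cfsg.Lie.twistedG2 K (3 ^ m))) ^ 2 ^ k = 1 := by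
        rw [← hk]
        have h6 : (⟨c, hc1⟩ : (T : Subgroup ↥(Cfsg.Lie.twistedG2 K (3 ^ m)))) ^ Nat.card T = 1 := pow_card_eq_one'
        exact congrArg Subtype.val h6
      have h9 : c ^ 2 ^ k = 1 := Subtype.ext h8
      have h10 := orderOf_dvd_of_pow_eq_one h9
      rw [hc] at h10
      have h11 := (by norm_num : Nat.Prime 7).dvd_of_dvd_pow h10
      omega
    · rw [← Nat.not_even_iff_odd, even_iff_two_dvd]
      intro h3
      exact S.not_dvd_index (h3.trans (Subgroup.index_dvd_of_le Subgroup.le_normalizer))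
  · intro j hj hr
    obtain ⟨r, hrp, hdiv, hr1, hra⟩ := Cfsg.Agent.Lib.Zsigmondy.exists_primitive (a := 3) (n := 6 * (2 * m + 1))
      (by norm_num) (by omega) (by omega) (by omega)
    have hr3 : r ≠ 3 := fun h => hra (h ▸ dvd_rfl)
    have hr2 : r ≠ 2 := by
      rintro rfl
      have := Nat.le_of_dvd (by norm_num) hr1
      omega
    have hrG : r ∣ Nat.card G := by
      rw [hcard]
      apply Dvd.dvd.mul_left
      have h3 : r ∣ 3 ^ (6 * (2 * m + 1)) - 1 := (hdiv _).2 dvd_rfl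
      have h4 : 3 ^ (6 * (2 * m + 1)) - 1 = ((3 ^ (2 * m + 1)) ^ 3 + 1) * (3 ^ (3 * (2 * m + 1)) - 1) := by
        have h5 : 3 ^ (6 * (2 * m + 1)) = (3 ^ (3 * (2 * m + 1))) ^ 2 := by rw [← pow_mul]; congr 1; ring
        have h6 : (3 ^ (2 * m + 1)) ^ 3 = 3 ^ (3 * (2 * m + 1)) := by rw [← pow_mul]; congr 1; ring
        rw [h5, h6]
        exact Nat.sq_sub_sq _ 1 ▸ rfl
      rw [h4] at h3
      rcases hrp.dvd_mul.1 h3 with h5 | h5
      · exact h5
      · exfalso
        have h6 := (hdiv _).1 h5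
        have h7 := Nat.le_of_dvd (by omega) h6
        omega
    have h3 := hr r hrp hr2 hr3 hrG
    have h4 : r ∣ 3 ^ j - 1 := (Nat.modEq_iff_dvd' (Nat.one_le_pow _ _ (by norm_num))).1 h3.symm
    have h5 := (hdiv j).1 h4
    by_contra hj0
    have h7 := Nat.le_of_dvd (by omega) h5
    omega

end

end Cfsg.Agent.H680.TwoClSzRee
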