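import Cfsg.Agent.H636.Gow.Defs
import Cfsg.Agent.H707.RowLie

/-!
# S4913, groups of Lie type: odd characteristic, and the list of cases in characteristic two
-/

set_option autoImplicit false

namespace Cfsg.Agent.H680.GowLie

open Cfsg Cfsg.Agent.H636.Gow

/-- A finite group with a split (B,N)-pair in odd characteristic. -/
theorem of_hasSplit {p : ℕ} [hp : Fact p.Prime] (hp2 : p ≠ 2) {K : Type*} [Group K] [Finite K]
    (h : FixBN.HasSplit p K) : RatOdd K := by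
  obtain ⟨χ, h1, h2, h3⟩ := H707.GalTrace.exists_rat_of_hasSplit h
  refine ⟨χ, h1, ?_, ?_, h2⟩
  · rintro rfl
    obtain ⟨P, U, ⟨s, hs⟩, hU⟩ := h
    obtain ⟨V, hV⟩ := hU.node s hs
    obtain ⟨u, hu, huV⟩ := hV.ne
    have hu1 : u ≠ 1 := fun h => huV (h ▸ one_mem V)
    obtain ⟨Q, hQ⟩ := hU.isP.exists_le_sylow
    have h4 := (h3 Q).2 u (hQ hu) hu1
    exact one_ne_zero h4
  · obtain ⟨Q⟩ : Nonempty (Sylow p K) := inferInstance
    refine ⟨Nat.card Q, ?_, (h3 Q).1⟩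
    obtain ⟨k, hk⟩ := Q.isPGroup'.exists_card_eq
    rw [hk]
    exact (hp.out.odd_of_ne_two hp2).pow

/-- **Groups of Lie type in odd characteristic.** -/
theorem lie_odd {p : ℕ} (hp : p.Prime) (hp2 : p ≠ 2) {K : Type*} [Group K] [Finite K] [IsSimpleGroup K]
    (h : IsLieTypeChar p K) : RatOdd K := by
  have : Fact p.Prime := ⟨hp⟩
  exact of_hasSplit hp2 (H996.AllSplit.hasSplit_of_lie hp h)

/-- Every group of Lie type has a characteristic. -/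
theorem exists_char {K : Type*} [Group K]
    (h : IsPSL K ∨ IsPSp K ∨ IsPSU K ∨ IsPOmegaOdd K ∨ IsPOmegaPlus K ∨ IsPOmegaMinus K ∨ IsExceptionalLieType K) :
    (∃ p : ℕ, p.Prime ∧ IsLieTypeChar p K) ∨ Lie.IsoTits K := by
  rcases h with ⟨F, _, _, n, h1, h2, h3⟩ | ⟨F, _, _, n, h1, h2, h3⟩ | ⟨F, _, _, n, q, h1, h2, h3, h4⟩ |
    ⟨F, _, _, n, h1, h2, h3⟩ | ⟨F, _, _, n, h1, h2⟩ | ⟨F, _, _, n, a, b, h1, h2, h3⟩ | h
  · obtain ⟨p, hp⟩ := CharP.exists F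
    exact Or.inl ⟨p, CharP.char_is_prime F p, Or.inl ⟨F, inferInstance, inferInstance, hp, n, h1, h2, h3⟩⟩
  · obtain ⟨p, hp⟩ := CharP.exists F
    exact Or.inl ⟨p, CharP.char_is_prime F p, Or.inr (Or.inl ⟨F, inferInstance, inferInstance, hp, n, h1, h2, h3⟩)⟩
  · obtain ⟨p, hp⟩ := CharP.exists F
    exact Or.inl ⟨p, CharP.char_is_prime F p, Or.inr (Or.inr (Or.inl ⟨F, inferInstance, inferInstance, hp, n, q, h1, h2, h3, h4⟩))⟩
  · obtain ⟨p, hp⟩ := CharP.exists F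
    exact Or.inl ⟨p, CharP.char_is_prime F p, Or.inr (Or.inr (Or.inr (Or.inl ⟨F, inferInstance, inferInstance, hp, n, h1, h2, h3⟩)))⟩
  · obtain ⟨p, hp⟩ := CharP.exists F
    exact Or.inl ⟨p, CharP.char_is_prime F p, 
      Or.inr (Or.inr (Or.inr (Or.inr (Or.inl ⟨F, inferInstance, inferInstance, hp, n, h1, h2⟩))))⟩
  · obtain ⟨p, hp⟩ := CharP.exists F
    exact Or.inl ⟨p, CharP.char_is_prime F p,
      Or.inr (Or.inr (Or.inr (Or.inr (Or.inr (Or.inl ⟨F, inferInstance, inferInstance, hp, n, a, b, h1, h2, h3⟩)))))⟩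
  · rcases h with ⟨F, _, _, h1, h2⟩ | ⟨F, _, _, h1⟩ | ⟨F, _, _, h1⟩ | ⟨F, _, _, h1⟩ | ⟨F, _, _, h1⟩ |
      ⟨F, _, _, q, h1, h2, h3⟩ | ⟨F, _, _, q, h1, h2, h3⟩ | h | h | h | h
    · obtain ⟨p, hp⟩ := CharP.exists F
      exact Or.inl ⟨p, CharP.char_is_prime F p,
        Or.inr (Or.inr (Or.inr (Or.inr (Or.inr (Or.inr (Or.inl ⟨F, inferInstance, inferInstance, hp, Or.inl ⟨h1, h2⟩⟩))))))⟩
    · obtain ⟨p, hp⟩ := CharP.exists F
      exact Or.inl ⟨p, CharP.char_is_prime F p,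
        Or.inr (Or.inr (Or.inr (Or.inr (Or.inr (Or.inr (Or.inl ⟨F, inferInstance, inferInstance, hp, Or.inr (Or.inl h1)⟩))))))⟩
    · obtain ⟨p, hp⟩ := CharP.exists F
      exact Or.inl ⟨p, CharP.char_is_prime F p,
        Or.inr (Or.inr (Or.inr (Or.inr (Or.inr (Or.inr (Or.inl ⟨F, inferInstance, inferInstance, hp, Or.inr (Or.inr (Or.inl h1))⟩))))))⟩
    · obtain ⟨p, hp⟩ := CharP.exists F
      exact Or.inl ⟨p, CharP.char_is_prime F p,
        Or.inr (Or.inr (Or.inr (Or.inr (Or.inr (Or.inr (Or.inl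
          ⟨F, inferInstance, inferInstance, hp, Or.inr (Or.inr (Or.inr (Or.inl h1)))⟩))))))⟩
    · obtain ⟨p, hp⟩ := CharP.exists F
      exact Or.inl ⟨p, CharP.char_is_prime F p,
        Or.inr (Or.inr (Or.inr (Or.inr (Or.inr (Or.inr (Or.inl
          ⟨F, inferInstance, inferInstance, hp, Or.inr (Or.inr (Or.inr (Or.inr h1)))⟩))))))⟩
    · obtain ⟨p, hp⟩ := CharP.exists F
      exact Or.inl ⟨p, CharP.char_is_prime F p,
        Or.inr (Or.inr (Or.inr (Or.inr (Or.inr (Or.inr (Or.inr (Or.inl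
          ⟨F, inferInstance, inferInstance, hp, q, h1, Or.inl ⟨h2, h3⟩⟩)))))))⟩
    · obtain ⟨p, hp⟩ := CharP.exists F
      exact Or.inl ⟨p, CharP.char_is_prime F p,
        Or.inr (Or.inr (Or.inr (Or.inr (Or.inr (Or.inr (Or.inr (Or.inl
          ⟨F, inferInstance, inferInstance, hp, q, h1, Or.inr ⟨h2, h3⟩⟩)))))))⟩
    · exact Or.inl ⟨2, Nat.prime_two,
        Or.inr (Or.inr (Or.inr (Or.inr (Or.inr (Or.inr (Or.inr (Or.inr (Or.inl ⟨rfl, h⟩))))))))⟩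
    · exact Or.inl ⟨3, Nat.prime_three,
        Or.inr (Or.inr (Or.inr (Or.inr (Or.inr (Or.inr (Or.inr (Or.inr (Or.inr (Or.inr ⟨rfl, h⟩)))))))))⟩
    · exact Or.inl ⟨2, Nat.prime_two,
        Or.inr (Or.inr (Or.inr (Or.inr (Or.inr (Or.inr (Or.inr (Or.inr (Or.inr (Or.inl ⟨rfl, h⟩)))))))))⟩
    · exact Or.inr h

/-- The families in characteristic two, with their fields. -/
def EvenCases (K : Type*) [Group K] : Prop :=
  (∃ (F : Type) (_ : Field F) (_ : Fintype F) (_ : CharP F 2), 4 ≤ Fintype.card F ∧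
    Nonempty (K ≃* Matrix.ProjectiveSpecialLinearGroup (Fin 2) F)) ∨
  (∃ (F : Type) (_ : Field F) (_ : Fintype F) (_ : CharP F 2),
    Nonempty (K ≃* Matrix.ProjectiveSpecialLinearGroup (Fin 3) F)) ∨
  (∃ (F : Type) (_ : Field F) (_ : Fintype F) (_ : CharP F 2) (n : ℕ), 4 ≤ n ∧
    Nonempty (K ≃* Matrix.ProjectiveSpecialLinearGroup (Fin n) F)) ∨
  (∃ (F : Type) (_ : Field F) (_ : Fintype F) (_ : CharP F 2) (m : ℕ), 2 ≤ m ∧ (m = 2 → 3 ≤ Fintype.card F) ∧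
    Nonempty (K ≃* PSp m F)) ∨
  (∃ (F : Type) (_ : Field F) (_ : Fintype F) (_ : CharP F 2) (m : ℕ), 4 ≤ m ∧
    Nonempty (K ≃* POmega F (quadFormPlus m F))) ∨
  (∃ (F : Type) (_ : Field F) (_ : Fintype F) (_ : CharP F 2) (m : ℕ) (a b : F), 3 ≤ m ∧
    (∀ z₁ z₂ : F, z₁ ^ 2 + a * z₁ * z₂ + b * z₂ ^ 2 = 0 → z₁ = 0 ∧ z₂ = 0) ∧
    Nonempty (K ≃* POmega F (quadFormMinus m F a b))) ∨
  (∃ (F : Type) (_ : Field F) (_ : Fintype F) (_ : CharP F 2) (n q : ℕ), Fintype.card F = q ^ 2 ∧ 4 ≤ n ∧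
    Nonempty (K ≃* PSU n F q)) ∨
  (∃ (F : Type) (_ : Field F) (_ : Fintype F) (_ : CharP F 2) (q : ℕ), Fintype.card F = q ^ 2 ∧ q ≠ 2 ∧
    Nonempty (K ≃* PSU 3 F q)) ∨
  (∃ (F : Type) (_ : Field F) (_ : Fintype F) (_ : CharP F 2), 3 ≤ Fintype.card F ∧
    Nonempty (K ≃* Lie.chevG2.group F)) ∨
  (∃ (F : Type) (_ : Field F) (_ : Fintype F) (_ : CharP F 2), Nonempty (K ≃* Lie.chevF4.group F)) ∨
  (∃ (F : Type) (_ : Field F) (_ : Fintype F) (_ : CharP F 2), Nonempty (K ≃* Lie.chevE6.group F)) ∨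
  (∃ (F : Type) (_ : Field F) (_ : Fintype F) (_ : CharP F 2), Nonempty (K ≃* Lie.chevE7.group F)) ∨
  (∃ (F : Type) (_ : Field F) (_ : Fintype F) (_ : CharP F 2), Nonempty (K ≃* Lie.chevE8.group F)) ∨
  (∃ (F : Type) (_ : Field F) (_ : Fintype F) (_ : CharP F 2) (q : ℕ), IsPrimePow q ∧ Fintype.card F = q ^ 2 ∧
    Nonempty (K ≃* Lie.twistedE6 F q)) ∨
  (∃ (F : Type) (_ : Field F) (_ : Fintype F) (_ : CharP F 2) (q : ℕ), IsPrimePow q ∧ Fintype.card F = q ^ 3 ∧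
    Nonempty (K ≃* Lie.twistedD4 F q)) ∨
  (∃ (F : Type) (_ : Field F) (_ : Fintype F) (_ : CharP F 2) (m : ℕ), 1 ≤ m ∧ Fintype.card F = 2 ^ (2 * m + 1) ∧
    Nonempty (K ≃* Lie.twistedF4 F (2 ^ m))) ∨
  Lie.IsoSuzuki K

/-- The families in characteristic two. -/
theorem even_cases {K : Type*} [Group K] (h : IsLieTypeChar 2 K) : EvenCases K := by
  unfold EvenCases
  rcases h with ⟨F, _, _, hc, n, h1, h2, h3⟩ | ⟨F, _, _, hc, n, h1, h2, h3⟩ | ⟨F, _, _, hc, n, q, h1, h2, h3, h4⟩ |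
    ⟨F, _, _, hc, n, h1, h2, h3⟩ | ⟨F, _, _, hc, n, h1, h2⟩ | ⟨F, _, _, hc, n, a, b, h1, h2, h3⟩ |
    ⟨F, _, _, hc, h⟩ | ⟨F, _, _, hc, q, hq, h⟩ | ⟨-, h⟩ | ⟨-, h⟩ | ⟨h, -⟩
  · rcases (by omega : n = 2 ∨ n = 3 ∨ 4 ≤ n) with rfl | rfl | hn
    · exact Or.inl ⟨F, inferInstance, inferInstance, hc, h2 rfl, h3⟩
    · exact Or.inr (Or.inl ⟨F, inferInstance, inferInstance, hc, h3⟩)
    · exact Or.inr (Or.inr (Or.inl ⟨F, inferInstance, inferInstance, hc, n, hn, h3⟩))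
  · exact Or.inr (Or.inr (Or.inr (Or.inl ⟨F, inferInstance, inferInstance, hc, n, h1, h2, h3⟩)))
  · rcases (by omega : n = 3 ∨ 4 ≤ n) with rfl | hn
    · iterate 7 right
      exact Or.inl ⟨F, inferInstance, inferInstance, hc, q, h1, fun h => h3 ⟨rfl, h⟩, h4⟩
    · iterate 6 right
      exact Or.inl ⟨F, inferInstance, inferInstance, hc, n, q, h1, hn, h4⟩
  · exfalso
    obtain ⟨k, -, hk⟩ := FiniteField.card F 2
    rw [hk] at h2
    exact Nat.not_even_iff_odd.2 h2 ((Nat.even_pow' k.pos.ne').2 even_two)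
  · iterate 4 right
    exact Or.inl ⟨F, inferInstance, inferInstance, hc, n, h1, h2⟩
  · iterate 5 right
    exact Or.inl ⟨F, inferInstance, inferInstance, hc, n - 1, a, b, by omega, h2, h3⟩
  · rcases h with ⟨h1, h2⟩ | h1 | h1 | h1 | h1
    · iterate 8 right
      exact Or.inl ⟨F, inferInstance, inferInstance, hc, h1, h2⟩
    · iterate 9 right
      exact Or.inl ⟨F, inferInstance, inferInstance, hc, h1⟩
    · iterate 10 right
      exact Or.inl ⟨F, inferInstance, inferInstance, hc, h1⟩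
    · iterate 11 right
      exact Or.inl ⟨F, inferInstance, inferInstance, hc, h1⟩
    · iterate 12 right
      exact Or.inl ⟨F, inferInstance, inferInstance, hc, h1⟩
  · rcases h with ⟨h1, h2⟩ | ⟨h1, h2⟩
    · iterate 13 right
      exact Or.inl ⟨F, inferInstance, inferInstance, hc, q, hq, h1, h2⟩
    · iterate 14 right
      exact Or.inl ⟨F, inferInstance, inferInstance, hc, q, hq, h1, h2⟩
  · iterate 16 right
    exact h
  · obtain ⟨F, _, _, m, h1, h2, h3⟩ := h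
    have hc : CharP F 2 := by
      obtain ⟨p, hp⟩ := CharP.exists F
      obtain ⟨k, hpp, hk⟩ := FiniteField.card F p
      rw [h2] at hk
      have h5 : p ∣ 2 ^ (2 * m + 1) := by rw [hk]; exact dvd_pow_self p k.pos.ne'
      have h6 := (Nat.prime_dvd_prime_iff_eq hpp Nat.prime_two).1 (hpp.dvd_of_dvd_pow h5)
      rwa [h6] at hp
    iterate 15 right
    exact Or.inl ⟨F, inferInstance, inferInstance, hc, m, h1, h2, h3⟩
  · omega

/-- **All groups of Lie type**: odd characteristic, one of the families in characteristic two, or the Tits group. -/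
theorem lie_cases {K : Type*} [Group K]
    (h : IsPSL K ∨ IsPSp K ∨ IsPSU K ∨ IsPOmegaOdd K ∨ IsPOmegaPlus K ∨ IsPOmegaMinus K ∨ IsExceptionalLieType K) :
    (∃ p : ℕ, p.Prime ∧ p ≠ 2 ∧ IsLieTypeChar p K) ∨ EvenCases K ∨ Lie.IsoTits K := by
  rcases exists_char h with ⟨p, hp, h1⟩ | h1
  · by_cases hp2 : p = 2
    · subst hp2
      exact Or.inr (Or.inl (even_cases h1))
    · exact Or.inl ⟨p, hp, hp2, h1⟩
  · exact Or.inr (Or.inr h1)

/-- **Assembly**: the families in characteristic two and the Tits group are enough. -/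
theorem lie_all {K : Type*} [Group K] [Finite K] [IsSimpleGroup K]
    (psl_two : ∀ (F : Type) [Field F] [Fintype F] [CharP F 2], 4 ≤ Fintype.card F →
      RatOdd (Matrix.ProjectiveSpecialLinearGroup (Fin 2) F))
    (psl_three : ∀ (F : Type) [Field F] [Fintype F] [CharP F 2],
      RatOdd (Matrix.ProjectiveSpecialLinearGroup (Fin 3) F))
    (psl : ∀ (F : Type) [Field F] [Fintype F] [CharP F 2] (n : ℕ), 4 ≤ n →
      RatOdd (Matrix.ProjectiveSpecialLinearGroup (Fin n) F))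
    (psp : ∀ (F : Type) [Field F] [Fintype F] [CharP F 2] (m : ℕ), 2 ≤ m → (m = 2 → 3 ≤ Fintype.card F) →
      RatOdd (PSp m F))
    (oplus : ∀ (F : Type) [Field F] [Fintype F] [CharP F 2] (m : ℕ), 4 ≤ m → RatOdd (POmega F (quadFormPlus m F)))
    (ominus : ∀ (F : Type) [Field F] [Fintype F] [CharP F 2] (m : ℕ), 3 ≤ m → ∀ (a b : F),
      (∀ z₁ z₂ : F, z₁ ^ 2 + a * z₁ * z₂ + b * z₂ ^ 2 = 0 → z₁ = 0 ∧ z₂ = 0) →
      RatOdd (POmega F (quadFormMinus m F a b)))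
    (psu : ∀ (F : Type) [Field F] [Fintype F] [CharP F 2] (n q : ℕ), Fintype.card F = q ^ 2 → 4 ≤ n →
      RatOdd (PSU n F q))
    (psu_three : ∀ (F : Type) [Field F] [Fintype F] [CharP F 2] (q : ℕ), Fintype.card F = q ^ 2 → q ≠ 2 →
      RatOdd (PSU 3 F q))
    (g_two : ∀ (F : Type) [Field F] [Fintype F] [CharP F 2], 3 ≤ Fintype.card F → RatOdd (Lie.chevG2.group F))
    (f_four : ∀ (F : Type) [Field F] [Fintype F] [CharP F 2], RatOdd (Lie.chevF4.group F))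
    (e_six : ∀ (F : Type) [Field F] [Fintype F] [CharP F 2], RatOdd (Lie.chevE6.group F))
    (e_seven : ∀ (F : Type) [Field F] [Fintype F] [CharP F 2], RatOdd (Lie.chevE7.group F))
    (e_eight : ∀ (F : Type) [Field F] [Fintype F] [CharP F 2], RatOdd (Lie.chevE8.group F))
    (tw_e_six : ∀ (F : Type) [Field F] [Fintype F] [CharP F 2] (q : ℕ), IsPrimePow q → Fintype.card F = q ^ 2 →
      RatOdd (Lie.twistedE6 F q))
    (tw_d_four : ∀ (F : Type) [Field F] [Fintype F] [CharP F 2] (q : ℕ), IsPrimePow q → Fintype.card F = q ^ 3 →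
      RatOdd (Lie.twistedD4 F q))
    (tw_f_four : ∀ (F : Type) [Field F] [Fintype F] [CharP F 2] (m : ℕ), 1 ≤ m → Fintype.card F = 2 ^ (2 * m + 1) →
      RatOdd (Lie.twistedF4 F (2 ^ m)))
    (sz : Lie.IsoSuzuki K → RatOdd K) (tits : Lie.IsoTits K → RatOdd K)
    (h : IsPSL K ∨ IsPSp K ∨ IsPSU K ∨ IsPOmegaOdd K ∨ IsPOmegaPlus K ∨ IsPOmegaMinus K ∨ IsExceptionalLieType K) :
    RatOdd K := by
  rcases lie_cases h with ⟨p, hp, hp2, h1⟩ | h1 | h1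
  · exact lie_odd hp hp2 h1
  · rcases h1 with ⟨F, _, _, _, h1, ⟨e⟩⟩ | ⟨F, _, _, _, ⟨e⟩⟩ | ⟨F, _, _, _, n, h1, ⟨e⟩⟩ |
      ⟨F, _, _, _, m, h1, h2, ⟨e⟩⟩ | ⟨F, _, _, _, m, h1, ⟨e⟩⟩ | ⟨F, _, _, _, m, a, b, h1, h2, ⟨e⟩⟩ |
      ⟨F, _, _, _, n, q, h1, h2, ⟨e⟩⟩ | ⟨F, _, _, _, q, h1, h2, ⟨e⟩⟩ | ⟨F, _, _, _, h1, ⟨e⟩⟩ |
      ⟨F, _, _, _, ⟨e⟩⟩ | ⟨F, _, _, _, ⟨e⟩⟩ | ⟨F, _, _, _, ⟨e⟩⟩ | ⟨F, _, _, _, ⟨e⟩⟩ |
      ⟨F, _, _, _, q, h1, h2, ⟨e⟩⟩ | ⟨F, _, _, _, q, h1, h2, ⟨e⟩⟩ | ⟨F, _, _, _, m, h1, h2, ⟨e⟩⟩ | h1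
    · exact (psl_two F h1).of_equiv e
    · exact (psl_three F).of_equiv e
    · exact (psl F n h1).of_equiv e
    · exact (psp F m h1 h2).of_equiv e
    · exact (oplus F m h1).of_equiv e
    · exact (ominus F m h1 a b h2).of_equiv e
    · exact (psu F n q h1 h2).of_equiv e
    · exact (psu_three F q h1 h2).of_equiv e
    · exact (g_two F h1).of_equiv e
    · exact (f_four F).of_equiv e
    · exact (e_six F).of_equiv e
    · exact (e_seven F).of_equiv e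
    · exact (e_eight F).of_equiv e
    · exact (tw_e_six F q h1 h2).of_equiv e
    · exact (tw_d_four F q h1 h2).of_equiv e
    · exact (tw_f_four F m h1 h2).of_equiv e
    · exact sz h1
  · exact tits h1

end Cfsg.Agent.H680.GowLie
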