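import Cfsg.Agent.H326.Shape
import Cfsg.Agent.H912.BdAlt
import Cfsg.Agent.S1064

/-!
# Rows for S5703 + S5651 (tasks 1736, 1738; helper680)

* `alt_row` : alternating groups of large degree have no projective representation of degree `2 ^ k`;
* `e7_defining` : the order of `E₇(q)`, `q` a power of `p`, does not divide the order of `GL₁₆(p)`.
-/

set_option autoImplicit false

namespace Cfsg.Agent.H680.CSix

universe u

theorem alt_row {k N : ℕ} (hk : 4 ≤ k) (hN : (2 ^ k + 1) * (2 ^ k - 2) ≤ 2 * N) {F : Type u} [Field F] {p : ℕ}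
    [CharP F p] (h : ∀ r : ℕ, r.Prime → r ≠ 2 → H912.Bd.PR F (2 ^ k) r (alternatingGroup (Fin N))) : False := by
  have h16 : 16 ≤ 2 ^ k := by
    calc 16 = 2 ^ 4 := by norm_num
      _ ≤ 2 ^ k := Nat.pow_le_pow_right (by norm_num) hk
  obtain ⟨n, hn⟩ : ∃ n, n = 2 ^ k := ⟨_, rfl⟩
  rw [← hn] at hN h16 h
  obtain ⟨r₁, hr₁, h1, h2⟩ := Nat.exists_prime_lt_and_le_two_mul (n + 1) (by omega)
  obtain ⟨r₂, hr₂, h3, h4⟩ := Nat.exists_prime_lt_and_le_two_mul (2 * (n + 1)) (by omega)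
  have hN' : 4 * (n + 1) + 2 ≤ N := by
    have h5 : (n + 1) * 14 ≤ (n + 1) * (n - 2) := Nat.mul_le_mul_left _ (by omega)
    omega
  -- one of the two primes is not zero in `F`
  obtain ⟨r, hr, hr1, hr2, hrF⟩ : ∃ r : ℕ, r.Prime ∧ n + 1 < r ∧ r ≤ 4 * (n + 1) ∧ (r : F) ≠ 0 := by
    by_cases h5 : (r₁ : F) = 0
    · refine ⟨r₂, hr₂, by omega, by omega, ?_⟩
      intro h6
      rw [CharP.cast_eq_zero_iff F p] at h5 h6
      rcases (Nat.dvd_prime hr₁).1 h5 with h7 | h7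
      · have := CharP.char_ne_one F p
        exact this h7
      · rw [h7] at h6
        have := (Nat.prime_dvd_prime_iff_eq hr₁ hr₂).1 h6
        omega
    · exact ⟨r₁, hr₁, by omega, by omega, h5⟩
  have hb := H912.Bd.bd_alt_prime (F := F) hr hrF (n := N) (by omega) n (h r hr (by omega))
  omega

theorem e7_defining {p : ℕ} [Fact p.Prime] (_hp2 : p ≠ 2) {F : Type*} [Field F] [Fintype F]
    (hF : Fintype.card F = p) {K : Type} [Field K] [Fintype K] [CharP K p] {T : Type*} [Group T]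
    (e : Nonempty (T ≃* ↥(Cfsg.Lie.chevE7.group K)))
    (hd : Nat.card T ∣ Nat.card (Matrix.GeneralLinearGroup (Fin 16) F)) : False := by
  have hp : p.Prime := Fact.out
  obtain ⟨e⟩ := e
  rw [Nat.card_congr e.toEquiv] at hd
  obtain ⟨n, -, hK⟩ := FiniteField.card K p
  have hn : 0 < (n : ℕ) := n.2
  obtain ⟨r, hr, hrm, hrn⟩ := H326.exists_ppd (a := p) (n := 18 * n) hp.two_le (by omega) (by omega)
  have hrp : ¬ r ∣ p := by
    intro h
    have h1 := (Nat.prime_dvd_prime_iff_eq hr hp).1 h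
    have h2 := (hrm (18 * n)).2 dvd_rfl
    rw [h1] at h2
    have h3 : p ∣ p ^ (18 * (n : ℕ)) := dvd_pow_self p (by omega)
    have h4 : 1 ≤ p ^ (18 * (n : ℕ)) := Nat.one_le_pow _ _ hp.pos
    have h5 := (Nat.dvd_sub_iff_right h4 h3).1 h2
    exact hp.one_lt.ne' (Nat.dvd_one.1 h5)
  -- `r` divides the order of `E₇(q)`
  have hrT : r ∣ Nat.card ↥(Cfsg.Lie.chevE7.group K) := by
    have h1 := Cfsg.Agent.S1064.result (F := K) (q := p ^ (n : ℕ)) hK
    have h2 : r ∣ (p ^ (n : ℕ)) ^ 18 - 1 := by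
      rw [← pow_mul, hrm, mul_comm]
    have h3 : r ∣ Nat.gcd 2 (p ^ (n : ℕ) - 1) * Nat.card ↥(Cfsg.Lie.chevE7.group K) := by
      rw [h1]; exact h2.mul_left _
    rcases hr.dvd_mul.1 h3 with h4 | h4
    · have h5 := Nat.le_of_dvd (by norm_num) (h4.trans (Nat.gcd_dvd_left 2 _))
      omega
    · exact h4
  have h1 := hrT.trans hd
  rw [Matrix.card_GL_field, hF] at h1
  obtain ⟨i, -, hi⟩ := (Prime.dvd_finsetProd_iff hr.prime _).1 h1
  have hi16 : (i : ℕ) < 16 := i.2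
  have h2 : p ^ 16 - p ^ (i : ℕ) = p ^ (i : ℕ) * (p ^ (16 - (i : ℕ)) - 1) := by
    rw [Nat.mul_sub, mul_one, ← pow_add]
    congr 2
    omega
  rw [h2] at hi
  rcases hr.dvd_mul.1 hi with h3 | h3
  · exact hrp (hr.dvd_of_dvd_pow h3)
  · rw [hrm] at h3
    have h4 := Nat.le_of_dvd (by omega) h3
    omega

end Cfsg.Agent.H680.CSix
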