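import Cfsg.Agent.H680.OverCl
import Cfsg.Agent.S0364
import Cfsg.Agent.S0365
import Cfsg.Agent.S0366
import Cfsg.Agent.S0376
import Cfsg.Agent.S0377
import Cfsg.Agent.S0378
import Cfsg.Agent.S0379
import Cfsg.Agent.S0380
import Cfsg.Agent.S0382
import Cfsg.Agent.S0383
import Cfsg.Agent.S0387
import Cfsg.Agent.S0388
import Cfsg.Agent.S0249
import Cfsg.Agent.S1601
import Cfsg.Agent.TwoFusion.SLTwoFacts
import Cfsg.Agent.H729.PairMathieu
import Cfsg.Agent.Schreier.MEleven
import Cfsg.Agent.Schreier.MTwelve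

/-!
S5900 (complemented subgroup lattices), the Mathieu groups.
-/

set_option autoImplicit false

open scoped Pointwise

namespace Cfsg.Agent.H680.ClMathieu

open Subgroup Cfsg Cfsg.Agent.H939 Cfsg.Agent.H939.KLat Cfsg.Agent.H680.Over MulAction

/-- transfer along an isomorphism -/
theorem cl_congr {G H : Type} [Group G] [Finite G] [IsSimpleGroup G] [Group H] (e : G ≃* H)
    (hb : Below (Nat.card G))
    (h : ∀ [Finite H] [IsSimpleGroup H], Below (Nat.card H) → CL H) : CL G := by
  have hf : Finite H := Finite.of_equiv _ e.toEquiv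
  have hs : IsSimpleGroup H := (MulEquiv.isSimpleGroup_congr e).1 inferInstance
  exact of_equiv e.symm (h (by rw [← Nat.card_congr e.toEquiv]; exact hb))

/-- the centralizer of an element of order 11 in a subgroup of `M24` -/
theorem card_cent (H : Subgroup M24) (c : H) (hc : orderOf c = 11) :
    Nat.card (centralizer {c} : Subgroup H) = 11 := by
  have h1 := H729.PairMathieu.card_cent_eleven (x := (c : M24)) (by rw [Subgroup.orderOf_coe, hc])
  have h2 : (centralizer {c} : Subgroup H).map H.subtype ≤ centralizer ({(c : M24)} : Set M24) := by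
    rintro _ ⟨x, hx, rfl⟩
    rw [mem_centralizer_singleton_iff]
    exact congrArg Subtype.val (mem_centralizer_singleton_iff.1 hx)
  have h3 := card_dvd_of_le h2
  rw [h1, card_map_of_injective H.subtype_injective] at h3
  have h4 : orderOf (⟨c, mem_centralizer_singleton_iff.2 rfl⟩ : centralizer ({c} : Set H)) ∣
      Nat.card (centralizer {c} : Subgroup H) := orderOf_dvd_natCard _
  rw [Subgroup.orderOf_mk, hc] at h4
  exact Nat.dvd_antisymm h3 h4

/-- the criterion for a subgroup `H` of `M24` and a simple subgroup `X ≤ H` -/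
theorem cl_sub (h0 : Kn) {n N : ℕ} (H X : Subgroup M24) [IsSimpleGroup H] (hXH : X ≤ H) (hb : Below (Nat.card H))
    (hs : IsSimpleGroup X) (l : List (ℕ × ℕ × ℕ)) (lN : List (ℕ × ℕ)) (hH : Nat.card H = N)
    (hX : Nat.card X = n) (hlt : n < N) (hpn : 11 ∣ n) (hp2 : ¬ 11 ^ 2 ∣ N) (hn : n ≠ 11)
    (hv : OrdDiv.valid lN N = true)
    (hc : (OrdDiv.cands lN N).all
      (fun g => OrdDiv.ordN g % n != 0 || (OrdDiv.ordN g == n || OrdDiv.ordN g == N)) = true)
    (hchk : chk 11 n N 11 l = true) : CL H := by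
  have e : X.subgroupOf H ≃* X := subgroupOfEquivOfLe hXH
  have hs' : IsSimpleGroup (X.subgroupOf H) := (MulEquiv.isSimpleGroup_congr e).2 hs
  exact cl_of_simple (n := n) (N := N) (p := 11) (q := 11) hb hs' l hH
    (by rw [Nat.card_congr e.toEquiv, hX]) hlt (by norm_num) hpn hp2 hn (only_of h0 lN hv hc)
    (fun c hc => card_cent H c hc) hchk

theorem cl_M24 (h0 : Kn) {G : Type} [Group G] [Finite G] [IsSimpleGroup G] (h : Spor.IsoM24 G)
    (hb : Below (Nat.card G)) : CL G := by
  obtain ⟨e⟩ := h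
  refine cl_congr (e.trans (Subgroup.topEquiv (G := M24)).symm) hb ?_
  intro _ _ hb'
  exact cl_sub h0 (n := 10200960) (N := 244823040) (⊤ : Subgroup M24) (stabilizer M24 (none : GolayPt)) le_top hb'
    (Cfsg.Agent.S0377.result none)
    [(2, 3, 23), (3, 1, 23)] [(2, 10), (3, 3), (5, 1), (7, 1), (11, 1), (23, 1)]
    (by rw [Subgroup.card_top]; exact Cfsg.Agent.S0364.result) (Cfsg.Agent.S0376.result none) (by norm_num)
    (by norm_num) (by norm_num) (by norm_num) (by decide +kernel) (by decide +kernel) (by decide +kernel)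

theorem cl_M23 (h0 : Kn) {G : Type} [Group G] [Finite G] [IsSimpleGroup G] (h : Spor.IsoM23 G)
    (hb : Below (Nat.card G)) : CL G := by
  obtain ⟨e⟩ := h
  refine cl_congr (e.trans H729.PairMathieu.mulEquiv23) hb ?_
  intro _ _ hb'
  exact cl_sub h0 (stabilizer M24 (none : GolayPt))
    (stabilizer M24 (none : GolayPt) ⊓ stabilizer M24 (some 0 : GolayPt)) inf_le_left hb'
    (Cfsg.Agent.S0379.result none (some 0) (by simp))
    [(23, 1, 7)] [(2, 7), (3, 2), (5, 1), (7, 1), (11, 1), (23, 1)]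
    (Cfsg.Agent.S0376.result none) (Cfsg.Agent.S0378.result none (some 0) (by simp)) (by norm_num)
    (by norm_num) (by norm_num) (by norm_num) (by decide +kernel) (by decide +kernel) (by decide +kernel)

theorem cl_M12 (h0 : Kn) {G : Type} [Group G] [Finite G] [IsSimpleGroup G] (h : Spor.IsoM12 G)
    (hb : Below (Nat.card G)) : CL G := by
  obtain ⟨e⟩ := h
  have hd := Schreier.MTwelve.squareDodecad_mem
  have h0' := Schreier.MEleven.zero_mem
  refine cl_congr (e.trans Schreier.MTwelve.equiv.symm) hb ?_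
  intro _ _ hb'
  exact cl_sub h0 (stabilizer M24 Spor.squareDodecad)
    (stabilizer M24 Spor.squareDodecad ⊓ stabilizer M24 (some 0 : GolayPt)) inf_le_left hb'
    (Cfsg.Agent.S0388.result _ hd _ h0')
    [(2, 2, 11), (3, 1, 11)] [(2, 6), (3, 3), (5, 1), (11, 1)]
    (Cfsg.Agent.S0382.result _ hd) (Cfsg.Agent.S0387.result _ hd _ h0') (by norm_num)
    (by norm_num) (by norm_num) (by norm_num) (by decide +kernel) (by decide +kernel) (by decide +kernel)

theorem none_not_mem : (none : GolayPt) ∉ Spor.squareDodecad := by decide +kernel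

theorem cl_M11 (h0 : Kn) {G : Type} [Group G] [Finite G] [IsSimpleGroup G] (h : Spor.IsoM11 G)
    (hb : Below (Nat.card G)) : CL G := by
  obtain ⟨e⟩ := h
  have hd := Schreier.MEleven.squareDodecad_mem
  have h0' := Schreier.MEleven.zero_mem
  refine cl_congr (e.trans Schreier.MEleven.equiv.symm) hb ?_
  intro _ _ hb'
  obtain ⟨f⟩ := Cfsg.Agent.S1601.result _ hd _ _ h0' none_not_mem
  have h11 : Fact (Nat.Prime 11) := ⟨by norm_num⟩
  have hps : IsSimpleGroup (Matrix.ProjectiveSpecialLinearGroup (Fin 2) (ZMod 11)) :=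
    Cfsg.Agent.TwoFusion.SLTwoFacts.isSimpleGroup_psl (by rw [ZMod.card]; norm_num)
  have hcp : Nat.card (Matrix.ProjectiveSpecialLinearGroup (Fin 2) (ZMod 11)) = 660 := Cfsg.Agent.S1601.card_PSL
  exact cl_sub h0 (stabilizer M24 Spor.squareDodecad ⊓ stabilizer M24 (some 0 : GolayPt))
    (stabilizer M24 Spor.squareDodecad ⊓ stabilizer M24 (some 0 : GolayPt) ⊓ stabilizer M24 (none : GolayPt))
    inf_le_left hb'
    ((MulEquiv.isSimpleGroup_congr f).2 hps)
    [(2, 2, 11), (3, 1, 11)] [(2, 4), (3, 2), (5, 1), (11, 1)]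
    (Cfsg.Agent.S0387.result _ hd _ h0') (by rw [Nat.card_congr f.toEquiv, hcp]) (by norm_num)
    (by norm_num) (by norm_num) (by norm_num) (by decide +kernel) (by decide +kernel) (by decide +kernel)

/-! ### `M22` -/

theorem four_transitive : IsMultiplyPretransitive M24 GolayPt 4 := by
  have h5 : MulAction.IsMultiplyPretransitive Cfsg.M24 Cfsg.GolayPt 5 := Cfsg.Agent.S0366.result
  have hcard : Nat.card GolayPt = 24 := by rw [Nat.card_eq_fintype_card]; rfl
  exact MulAction.isMultiplyPretransitive_of_le (n := 5) (by norm_num) (by rw [hcard]; norm_num)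

theorem exists_move {p q r s t : GolayPt} (hpq : p ≠ q) (hpr : p ≠ r) (hqr : q ≠ r) (hps : p ≠ s) (hqs : q ≠ s)
    (hrs : r ≠ s) (hpt : p ≠ t) (hqt : q ≠ t) (hrt : r ≠ t) :
    ∃ g : M24, g • p = p ∧ g • q = q ∧ g • r = r ∧ g • s = t := by
  have h4 := four_transitive
  rw [isMultiplyPretransitive_iff] at h4
  have hx : Function.Injective ![p, q, r, s] := by
    intro i j hij
    fin_cases i <;> fin_cases j <;> simp_all
  have hy : Function.Injective ![p, q, r, t] := by
    intro i j hij
    fin_cases i <;> fin_cases j <;> simp_all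
  obtain ⟨g, hg⟩ := h4 (x := ⟨_, hx⟩) (y := ⟨_, hy⟩)
  exact ⟨g, by simpa using DFunLike.congr_fun hg 0, by simpa using DFunLike.congr_fun hg 1,
    by simpa using DFunLike.congr_fun hg 2, by simpa using DFunLike.congr_fun hg 3⟩

theorem cl_M22 {G : Type} [Group G] [Finite G] [IsSimpleGroup G] (h : Spor.IsoM22 G)
    (hb : Below (Nat.card G)) : CL G := by
  obtain ⟨e⟩ := h
  refine cl_congr (e.trans H729.M22Deg.mulEquiv) hb ?_
  intro _ _ hb'
  have hpq : (none : GolayPt) ≠ some 0 := by simp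
  have hpr : (none : GolayPt) ≠ some 1 := by simp
  have hqr : (some 0 : GolayPt) ≠ some 1 := by decide
  generalize (none : GolayPt) = p at *
  generalize (some 0 : GolayPt) = q at *
  generalize (some 1 : GolayPt) = r at *
  set H := stabilizer M24 p ⊓ stabilizer M24 q with hH
  have hsub : stabilizer M24 p ⊓ stabilizer M24 q ⊓ stabilizer M24 r ≤ H := inf_le_left
  set X := (stabilizer M24 p ⊓ stabilizer M24 q ⊓ stabilizer M24 r).subgroupOf H with hX
  obtain ⟨f⟩ := Cfsg.Agent.S0380.result p q r hpq hpr hqr Cfsg.Agent.SporadicA.FieldFour.F4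
    Cfsg.Agent.SporadicA.FieldFour.F4.card_eq
  have e' := (subgroupOfEquivOfLe hsub).trans f
  have hps : IsSimpleGroup (Matrix.ProjectiveSpecialLinearGroup (Fin 3) Cfsg.Agent.SporadicA.FieldFour.F4) :=
    Cfsg.Agent.S0249.result 3 le_rfl
  have hXs : IsSimpleGroup X := (MulEquiv.isSimpleGroup_congr e').2 hps
  have hcX : Nat.card X = 20160 := by
    rw [Nat.card_congr e'.toEquiv, Cfsg.Agent.S0380.card_psl]
  have hcH : Nat.card H = 443520 := Cfsg.Agent.S0378.result p q hpq
  have hXt : X ≠ ⊤ := by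
    intro he
    rw [he, card_top, hcH] at hcX
    norm_num at hcX
  refine crit_unique (X := X) (M := X) (hb'.apply (by rw [hcX, hcH]; norm_num)) hXt ?_
  intro Y hXY hY
  by_contra hle
  apply hY
  obtain ⟨y, hyY, hyX⟩ := SetLike.not_le_iff_exists.1 hle
  have memX : ∀ g : H, (g : M24) • r = r → g ∈ X := by
    intro g hg
    rw [hX, mem_subgroupOf]
    exact ⟨g.2, hg⟩
  have hp : ∀ g : H, (g : M24) • p = p := fun g => g.2.1
  have hq : ∀ g : H, (g : M24) • q = q := fun g => g.2.2
  have ne : ∀ g : H, p ≠ (g : M24) • r ∧ q ≠ (g : M24) • r := by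
    intro g
    constructor
    · intro h
      apply hpr
      have h1 : (g : M24) • p = (g : M24) • r := by rw [hp g]; exact h
      exact smul_left_cancel _ h1
    · intro h
      apply hqr
      have h1 : (g : M24) • q = (g : M24) • r := by rw [hq g]; exact h
      exact smul_left_cancel _ h1
  have hyr : r ≠ (y : M24) • r := fun h => hyX (memX y h.symm)
  rw [eq_top_iff]
  intro g _
  by_cases hgr : (g : M24) • r = r
  · exact hXY (memX g hgr)
  · obtain ⟨x, x1, x2, x3, x4⟩ := exists_move hpq hpr hqr (ne y).1 (ne y).2 hyr (ne g).1 (ne g).2 (Ne.symm hgr)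
    have hxX : (⟨x, ⟨x1, x2⟩⟩ : H) ∈ X := memX _ x3
    have h1 : (⟨x, ⟨x1, x2⟩⟩ * y : H)⁻¹ * g ∈ X := by
      apply memX
      rw [Subgroup.coe_mul, mul_smul, ← x4, Subgroup.coe_inv, inv_smul_eq_iff, Subgroup.coe_mul, mul_smul]
    have h2 := Y.mul_mem (Y.mul_mem (hXY hxX) hyY) (hXY h1)
    rwa [mul_inv_cancel_left] at h2

end Cfsg.Agent.H680.ClMathieu
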