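import Cfsg.Agent.H680.ClMathieu
import Cfsg.Agent.S0000

/-!
S5900, the Mathieu rows (with the classification S0000 plugged in).
-/

set_option autoImplicit false

namespace Cfsg.Agent.H680.ClMathieuF

open Cfsg Cfsg.Agent.H939.KLat Cfsg.Agent.H680.Over

theorem kn : Kn := fun _ _ _ _ => Cfsg.Agent.S0000.result

variable {G : Type} [Group G] [Finite G] [IsSimpleGroup G]

theorem cl_M11 (h : Spor.IsoM11 G) (hb : Below (Nat.card G)) : CL G := ClMathieu.cl_M11 kn h hb
theorem cl_M12 (h : Spor.IsoM12 G) (hb : Below (Nat.card G)) : CL G := ClMathieu.cl_M12 kn h hb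
theorem cl_M22 (h : Spor.IsoM22 G) (hb : Below (Nat.card G)) : CL G := ClMathieu.cl_M22 h hb
theorem cl_M23 (h : Spor.IsoM23 G) (hb : Below (Nat.card G)) : CL G := ClMathieu.cl_M23 kn h hb
theorem cl_M24 (h : Spor.IsoM24 G) (hb : Below (Nat.card G)) : CL G := ClMathieu.cl_M24 kn h hb

end Cfsg.Agent.H680.ClMathieuF
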