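import Cfsg.Agent.H680.PBON
import Cfsg.Agent.H999.ONIMThree
import Cfsg.Agent.H999.ONIMFive

/-!
# S4826, the row of the O'Nan group (task 2073; helper680)
-/

set_option autoImplicit false

namespace Cfsg.Agent.H680.PBON

universe u

/-- **The row of the O'Nan group** (S4826). -/
theorem row_on {S : Type u} [Group S] (h : Cfsg.Spor.IsoON S) {p : ℕ} (hp : p.Prime) (hd : p ∣ Nat.card S) :
    Cfsg.Agent.H133.PB.Row p S := by
  obtain ⟨e⟩ := h
  have hd' : p ∣ Nat.card Cfsg.Spor.ON := by rwa [← Nat.card_congr e.toEquiv]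
  exact (row_of H999.ONIMThree.IM_three H999.ONIMFive.IM_five hp hd').of_equiv e

end Cfsg.Agent.H680.PBON
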