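import Cfsg.Agent.H680.PairHe
import Cfsg.Agent.H620.ONVan
import Cfsg.Agent.H690.Spor.ONRow
import Cfsg.Agent.H474.ONC.End

/-!
# S4938, pairs of primes: the O'Nan group (task 1898; helper680)

`x₂₀` (`#C ≤ 20`), `x₁₁` (`#C = 11`), `x₁₉` (`#C = 19`).
-/

set_option autoImplicit false

namespace Cfsg.Agent.H680.PairON

open Cfsg Cfsg.Agent.H713 Cfsg.Agent.H730.Pair Subgroup
open Cfsg.Spor (ON)
open Cfsg.Agent.KFacts.ON.Words (v)

theorem cases {p : ℕ} (hp : p.Prime) (h : p ∣ 460815505920) :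
    p = 2 ∨ p = 3 ∨ p = 5 ∨ p = 7 ∨ p = 11 ∨ p = 19 ∨ p = 31 := by
  rw [show (460815505920 : ℕ) = 2 ^ 9 * 3 ^ 4 * 5 * 7 ^ 3 * 11 * 19 * 31 by norm_num] at h
  have key : ∀ {r : ℕ}, r.Prime → p ∣ r → p = r := fun hr hd => (Nat.prime_dvd_prime_iff_eq hp hr).1 hd
  rcases hp.dvd_mul.1 h with h | h
  · rcases hp.dvd_mul.1 h with h | h
    · rcases hp.dvd_mul.1 h with h | h
      · rcases hp.dvd_mul.1 h with h | h
        · rcases hp.dvd_mul.1 h with h | h
          · rcases hp.dvd_mul.1 h with h | h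
            · exact Or.inl (key (by norm_num) (hp.dvd_of_dvd_pow h))
            · exact Or.inr (Or.inl (key (by norm_num) (hp.dvd_of_dvd_pow h)))
          · exact Or.inr (Or.inr (Or.inl (key (by norm_num) h)))
        · exact Or.inr (Or.inr (Or.inr (Or.inl (key (by norm_num) (hp.dvd_of_dvd_pow h)))))
      · exact Or.inr (Or.inr (Or.inr (Or.inr (Or.inl (key (by norm_num) h)))))
    · exact Or.inr (Or.inr (Or.inr (Or.inr (Or.inr (Or.inl (key (by norm_num) h))))))
  · exact Or.inr (Or.inr (Or.inr (Or.inr (Or.inr (Or.inr (key (by norm_num) h))))))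

theorem pairRow' : PairRow ON := by
  have hcard : Nat.card ON = 460815505920 := Cfsg.Agent.H620.ONStruct.card_ON
  have hfin : Finite ON := Nat.finite_of_card_ne_zero (by rw [hcard]; norm_num)
  -- the three elements
  obtain ⟨y, hy, ho⟩ := Cfsg.Agent.H620.ONVan.exists_five
  have h20 : 20 ∣ Nat.card (centralizer ({v * y} : Set ON)) := by
    rw [← Cfsg.Agent.H620.ONStruct.orderOf_vy hy ho]
    exact Subgroup.orderOf_dvd_natCard _ (mem_centralizer_singleton_iff.2 rfl)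
  have hc20 : Nat.card (centralizer ({v * y} : Set ON)) = 20 :=
    le_antisymm (Cfsg.Agent.H620.ONStruct.card_cent_vy hy ho) (Nat.le_of_dvd Nat.card_pos h20)
  have hv20 := Cfsg.Agent.H620.ONVan.vz_20 hy ho
  obtain ⟨a, ha, hca⟩ := Cfsg.Agent.H474.ONC.exists_eleven
  obtain ⟨b, hb, hcb⟩ := Cfsg.Agent.H474.ONC.exists_nineteen
  have f11 : Fact (Nat.Prime 11) := ⟨by norm_num⟩
  have f19 : Fact (Nat.Prime 19) := ⟨by norm_num⟩
  have hva : VZ ON a := HasDZ.vz Cfsg.Agent.H690.Spor.ONRow.hasDZ_11 (by rw [ha])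
  have hvb : VZ ON b := HasDZ.vz Cfsg.Agent.H713.Spor.ON.hasDZ_19 (by rw [hb])
  have i20 : ∀ p : ℕ, p.Prime → p ∣ Nat.card ON → p ≠ 5 → p ∣ (centralizer ({v * y} : Set ON)).index := by
    intro p hp hpG h5
    rw [hcard] at hpG
    rcases cases hp hpG with rfl | rfl | rfl | rfl | rfl | rfl | rfl
    · exact dvd_index_of_not_dvd hp (k := 3) (by rw [hcard]; norm_num) (by rw [hc20]; norm_num)
    · exact dvd_index_of_not_dvd hp (k := 1) (by rw [hcard]; norm_num) (by rw [hc20]; norm_num)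
    · exact absurd rfl h5
    · exact dvd_index_of_not_dvd hp (k := 1) (by rw [hcard]; norm_num) (by rw [hc20]; norm_num)
    · exact dvd_index_of_not_dvd hp (k := 1) (by rw [hcard]; norm_num) (by rw [hc20]; norm_num)
    · exact dvd_index_of_not_dvd hp (k := 1) (by rw [hcard]; norm_num) (by rw [hc20]; norm_num)
    · exact dvd_index_of_not_dvd hp (k := 1) (by rw [hcard]; norm_num) (by rw [hc20]; norm_num)
  have i11 : ∀ p : ℕ, p.Prime → p ∣ Nat.card ON → p ≠ 11 → p ∣ (centralizer ({a} : Set ON)).index := by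
    intro p hp hpG h5
    refine dvd_index_of_not_dvd hp (k := 1) (by rw [pow_one]; exact hpG) ?_
    rw [hca, pow_one]
    exact fun h => h5 ((Nat.prime_dvd_prime_iff_eq hp (by norm_num)).1 h)
  have i19 : ∀ p : ℕ, p.Prime → p ∣ Nat.card ON → p ≠ 19 → p ∣ (centralizer ({b} : Set ON)).index := by
    intro p hp hpG h5
    refine dvd_index_of_not_dvd hp (k := 1) (by rw [pow_one]; exact hpG) ?_
    rw [hcb, pow_one]
    exact fun h => h5 ((Nat.prime_dvd_prime_iff_eq hp (by norm_num)).1 h)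
  intro p q hp hq hpq hpG hqG
  by_cases h5 : p = 5 ∨ q = 5
  · by_cases h11 : p = 11 ∨ q = 11
    · refine ⟨b, hvb, i19 p hp hpG ?_, i19 q hq hqG ?_⟩ <;> omega
    · push Not at h11
      exact ⟨a, hva, i11 p hp hpG h11.1, i11 q hq hqG h11.2⟩
  · push Not at h5
    exact ⟨v * y, hv20, i20 p hp hpG h5.1, i20 q hq hqG h5.2⟩

/-- **The O'Nan group** (task 1898) -/
theorem pairRow {K : Type*} [Group K] (h : Spor.IsoON K) : PairRow K := by
  obtain ⟨e⟩ := h
  exact pairRow'.mulEquiv e.symm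

end Cfsg.Agent.H680.PairON
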