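import Mathlib
import Cfsg.Agent.H716.CopRow
import Cfsg.Agent.H967.CopRow
import Cfsg.Agent.ChevalleyStructure.SL2Hom

/-!
# Criteria for `TRow` from field automorphisms (helper680)

* `dgH : Fˣ →* SL(2, F)` the diagonal elements, `map_dgH`, `dgH_injective`;
* `crit` : a torus `f : Fˣ →* G` on which `α` acts through `σ ≠ 1`, commuting with an element `u` of order the
  characteristic, gives the elements required in `H716.CopRow.TRow`;
* `tRow_of_row` : `TRow r G` for a matrix group with `H967.CopRow.Row G`, from the elements for the field automorphisms.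
-/

set_option autoImplicit false

namespace Cfsg.Agent.H680.TRowBase

open Subgroup Cfsg.Agent.H716.CopRow Cfsg.Agent.H967.CopRow Cfsg.Agent.H967.CopMat

/-- the conclusion of `TRow` for one automorphism -/
def Elts (r : ℕ) {G : Type*} [Group G] (α : MulAut G) : Prop :=
  ∃ e u : G, Commute e u ∧ r ∣ orderOf u ∧ (orderOf e).Coprime (orderOf u) ∧ α e ∈ zpowers e ∧ α e ≠ e

section

variable {F : Type*} [Field F]

/-- the diagonal elements of `SL₂(F)` -/
def dgH : Fˣ →* Matrix.SpecialLinearGroup (Fin 2) F where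
  toFun t := ⟨!![(t : F), 0; 0, ((t⁻¹ : Fˣ) : F)], by
    rw [Matrix.det_fin_two_of, Units.mul_inv, mul_zero, sub_zero]⟩
  map_one' := by
    apply Subtype.ext
    show !![((1 : Fˣ) : F), 0; 0, (((1 : Fˣ)⁻¹ : Fˣ) : F)] = 1
    rw [inv_one, Units.val_one]
    exact Matrix.one_fin_two.symm
  map_mul' s t := by
    apply Subtype.ext
    show !![((s * t : Fˣ) : F), 0; 0, (((s * t)⁻¹ : Fˣ) : F)] =
      !![(s : F), 0; 0, ((s⁻¹ : Fˣ) : F)] * !![(t : F), 0; 0, ((t⁻¹ : Fˣ) : F)]
    rw [Matrix.mul_fin_two, mul_inv, Units.val_mul, Units.val_mul]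
    simp

theorem dgH_injective : Function.Injective (dgH (F := F)) := by
  intro s t h
  have h1 := congrArg (fun z : Matrix.SpecialLinearGroup (Fin 2) F => z.1 0 0) h
  exact Units.ext h1

theorem map_dgH {K : Type*} [Field K] (f : F →+* K) (t : Fˣ) :
    Matrix.SpecialLinearGroup.map f (dgH t) = dgH (Units.map (f : F →* K) t) := by
  apply Subtype.ext
  change (!![(t : F), 0; 0, ((t⁻¹ : Fˣ) : F)] : Matrix (Fin 2) (Fin 2) F).map f =
    !![f (t : F), 0; 0, ((((Units.map (f : F →* K) t)⁻¹ : Kˣ)) : K)]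
  ext i j
  fin_cases i <;> fin_cases j <;> simp

theorem up_pow (t : F) (n : ℕ) :
    Cfsg.Agent.ChevalleyStructure.SL2Hom.up t ^ n = Cfsg.Agent.ChevalleyStructure.SL2Hom.up ((n : F) * t) := by
  induction n with
  | zero =>
    apply Subtype.ext
    change (1 : Matrix (Fin 2) (Fin 2) F) = !![1, ((0 : ℕ) : F) * t; 0, 1]
    rw [Nat.cast_zero, zero_mul]
    exact Matrix.one_fin_two
  | succ n ih =>
    rw [pow_succ, ih]
    apply Subtype.ext
    change (!![1, (n : F) * t; 0, 1] : Matrix (Fin 2) (Fin 2) F) * !![1, t; 0, 1] = !![1, ((n + 1 : ℕ) : F) * t; 0, 1]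
    rw [Matrix.mul_fin_two]
    push_cast
    ext i j
    fin_cases i <;> fin_cases j <;> simp
    ring

theorem orderOf_up {r : ℕ} [hr : Fact r.Prime] [CharP F r] {t : F} (ht : t ≠ 0) :
    orderOf (Cfsg.Agent.ChevalleyStructure.SL2Hom.up t) = r := by
  refine orderOf_eq_prime ?_ ?_
  · rw [up_pow, CharP.cast_eq_zero, zero_mul]
    apply Subtype.ext
    exact Matrix.one_fin_two.symm
  · intro h
    have h2 := congrArg (fun z : Matrix.SpecialLinearGroup (Fin 2) F => z.1 0 1) h
    exact ht h2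

/-- a torus on which `α` acts through `σ ≠ 1`, commuting with an element whose order is the characteristic -/
theorem crit [Finite F] {G : Type*} [Group G] {r : ℕ} [Fact r.Prime] [CharP F r] {α : MulAut G} {σ : F ≃+* F}
    (hσ : σ ≠ 1) (f : Fˣ →* G) (hf : Function.Injective f)
    (h : ∀ t : Fˣ, α (f t) = f (Units.map ((σ : F →+* F) : F →* F) t)) {u : G} (hu : ∀ t, Commute (f t) u)
    (hur : orderOf u = r) : Elts r α := by
  obtain ⟨s, hs⟩ := IsCyclic.exists_generator (α := Fˣ)
  refine ⟨f s, u, hu s, hur ▸ dvd_refl _, ?_, ?_, ?_⟩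
  · rw [hur, orderOf_injective f hf, orderOf_eq_card_of_forall_mem_zpowers hs, Nat.card_units]
    have h1 : r ∣ Nat.card F := by
      have := Fintype.ofFinite F
      obtain ⟨n, -, hn⟩ := FiniteField.card F r
      rw [Nat.card_eq_fintype_card, hn]
      exact dvd_pow_self _ n.ne_zero
    have h2 : 0 < Nat.card F := Nat.card_pos
    rw [Nat.coprime_comm, (Fact.out : r.Prime).coprime_iff_not_dvd]
    intro h3
    have h4 := (Nat.dvd_sub h1 h3)
    rw [Nat.sub_sub_self h2] at h4
    exact (Fact.out : r.Prime).one_lt.ne' (Nat.dvd_one.1 h4)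
  · rw [h]
    obtain ⟨k, hk⟩ := hs (Units.map ((σ : F →+* F) : F →* F) s)
    exact ⟨k, by show f s ^ k = _; rw [← hk, map_zpow]⟩
  · intro h1
    apply hσ
    rw [h] at h1
    have h2 : σ (s : F) = s := congrArg Units.val (hf h1)
    apply RingEquiv.ext
    intro x
    by_cases hx : x = 0
    · rw [hx, map_zero]; rfl
    · obtain ⟨k, hk⟩ := hs (Units.mk0 x hx)
      have h3 : x = ((s ^ k : Fˣ) : F) := by
        rw [← Units.val_mk0 hx]
        exact congrArg Units.val hk.symm
      rw [h3, Units.val_zpow_eq_zpow_val, map_zpow₀, h2]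
      rfl

end

/-- `TRow` for a matrix group whose coprime automorphisms are field automorphisms -/
theorem tRow_of_row {ι : Type*} [Fintype ι] [DecidableEq ι] {F : Type*} [Field F] {G : Subgroup (GL ι F)} (R : Row G)
    {r : ℕ} (H : ∀ σ : F ≃+* F, (orderOf σ).Prime → ¬ orderOf σ ∣ Nat.card ↥G → Elts r (fieldAut R.stab σ)) :
    TRow r ↥G := by
  intro p hp hpG α hα
  obtain ⟨e', σ, h1, h2⟩ := R.exists_equiv_one (MulEquiv.refl ↥G) α
    (by rw [hα]; exact (hp.coprime_iff_not_dvd).2 hpG)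
  rw [hα] at h2
  obtain ⟨e, u, h3, h4, h5, h6, h7⟩ := H σ (by rw [h2]; exact hp) (by rw [h2]; exact hpG)
  have h8 : ∀ z, e'.symm (fieldAut R.stab σ z) = α (e'.symm z) := by
    intro z
    rw [MulEquiv.symm_apply_eq, h1, e'.apply_symm_apply]
  refine ⟨e'.symm e, e'.symm u, h3.map e'.symm, by rwa [MulEquiv.orderOf_eq],
    by rwa [MulEquiv.orderOf_eq, MulEquiv.orderOf_eq], ?_, ?_⟩
  · obtain ⟨k, hk⟩ := h6
    refine ⟨k, ?_⟩
    show e'.symm e ^ k = _
    rw [← h8, ← map_zpow]
    exact congrArg e'.symm hk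
  · intro h
    apply h7
    rw [← h8] at h
    exact e'.symm.injective h

end Cfsg.Agent.H680.TRowBase
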